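import Groth.Agent.Smoothlim.ClosedFP

/-!
# Closed subschemes as limits, indexed by a directed preorder

* `closedIso`: a closed immersion `i : Z ⟶ X` over `S` is isomorphic over `S` to the cone point of the cone
  `subC f i.ker K₀` of `Groth.Agent.Smoothlim.ClosedFP`.
* `isFinite_subscheme_of_le`: finiteness over the base passes to larger ideals.
-/

set_option autoImplicit false

universe u

open CategoryTheory AlgebraicGeometry
open Groth.Agent.Smoothlim.ClosedFP

namespace K339.ClosedLim

variable {X S Z : Scheme.{u}} (f : X ⟶ S) (i : Z ⟶ X) [IsClosedImmersion i]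

theorem toImage_comp (g : Z ⟶ S) (hg : i ≫ f = g) : i.toImage ≫ i.ker.subschemeι ≫ f = g := by
  rw [← Category.assoc, Scheme.Hom.toImage_imageι, hg]

/-- The closed subscheme `Z` is the cone point of the cone of finite type approximations. -/
noncomputable def closedIso (g : Z ⟶ S) (hg : i ≫ f = g) (K₀ : X.IdealSheafData) :
    (subC f i.ker K₀).pt ≅ Over.mk g :=
  have hiso : IsIso i.toImage := inferInstance
  (Over.isoMk (f := Over.mk g) (g := (subC f i.ker K₀).pt) (@asIso _ _ _ _ i.toImage hiso)
    (toImage_comp f i g hg)).symm

/-- Finiteness over the base passes to larger ideals. -/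
theorem isFinite_subscheme_of_le {K K' : X.IdealSheafData} (h : K ≤ K') [IsFinite (K.subschemeι ≫ f)] :
    IsFinite (K'.subschemeι ≫ f) := by
  rw [← Scheme.IdealSheafData.inclusion_subschemeι h, Category.assoc]
  infer_instance

end K339.ClosedLim
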