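import Groth.Agent.S7384

/-!
# Morphisms of qcqs schemes as limits of finitely presented ones

* `Model f u`: `X ⟶ U` is the limit of `X_i ⟶ S_i`, with `X_i`, `S_i` of finite type over `ℤ`; `u : U ⟶ S`.
* `zD`, `zC`, `isLimitZC`: the schemes `Z_i = X_i ×_{S_i} U` over `S` and their limit `X`.
-/

set_option autoImplicit false

universe u

open CategoryTheory AlgebraicGeometry Limits

namespace K339.FPSystem

/-- A presentation of `f : X ⟶ U` as a limit of morphisms of schemes of finite type over `ℤ`. -/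
structure Model {X U : Scheme.{u}} (f : X ⟶ U) where
  I : Type u
  [pre : Preorder I]
  [dir : IsDirected I (fun a b => a ≤ b)]
  [ne : Nonempty I]
  DX : Iᵒᵖ ⥤ Scheme.{u}
  DS : Iᵒᵖ ⥤ Scheme.{u}
  φ : DX ⟶ DS
  πX : (Functor.const _).obj X ⟶ DX
  πS : (Functor.const _).obj U ⟶ DS
  hX : IsLimit (Cone.mk X πX)
  hS : IsLimit (Cone.mk U πS)
  affX : ∀ (i j : Iᵒᵖ) (a : i ⟶ j), IsAffineHom (DX.map a)
  affS : ∀ (i j : Iᵒᵖ) (a : i ⟶ j), IsAffineHom (DS.map a)
  cX : ∀ i, CompactSpace (DX.obj i)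
  cS : ∀ i, CompactSpace (DS.obj i)
  nX : ∀ i, IsLocallyNoetherian (DX.obj i)
  nS : ∀ i, IsLocallyNoetherian (DS.obj i)
  ft : ∀ i, LocallyOfFiniteType (φ.app i)
  w : ∀ i, πX.app i ≫ φ.app i = f ≫ πS.app i

attribute [instance] Model.pre Model.dir Model.ne Model.cX Model.cS Model.nX Model.nS Model.ft

theorem nonempty_model {X U : Scheme.{u}} (f : X ⟶ U) [CompactSpace X] [QuasiSeparatedSpace X]
    [CompactSpace U] [QuasiSeparatedSpace U] : Nonempty (Model f) := by
  obtain ⟨I, _, _, _, DX, DS, φ, cX, cS, hX, hS, eX, eS, h1, h2, h3⟩ := Groth.Agent.S7384.result f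
  have hZ : IsNoetherianRing (ULift.{u} ℤ) :=
    isNoetherianRing_of_ringEquiv ℤ ULift.ringEquiv.symm
  have hZ' : IsLocallyNoetherian (Spec (CommRingCat.of (ULift.{u} ℤ))) := by
    have : IsNoetherianRing (CommRingCat.of (ULift.{u} ℤ)) := hZ
    infer_instance
  refine ⟨{
    I := I
    DX := DX
    DS := DS
    φ := φ
    πX := (cX.extend eX.inv).π
    πS := (cS.extend eS.inv).π
    hX := IsLimit.extendIso eX.inv hX
    hS := IsLimit.extendIso eS.inv hS
    affX := fun i j a => (h1 i j a).1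
    affS := fun i j a => (h1 i j a).2
    cX := fun i => (h2 i).1
    cS := fun i => (h2 i).2.1
    nX := fun i => ?_
    nS := fun i => ?_
    ft := fun i => ?_
    w := fun i => ?_ }⟩
  · have := (h2 i).2.2.1
    exact LocallyOfFiniteType.isLocallyNoetherian (specULiftZIsTerminal.from (DX.obj i))
  · have := (h2 i).2.2.2
    exact LocallyOfFiniteType.isLocallyNoetherian (specULiftZIsTerminal.from (DS.obj i))
  · have h4 := (h2 i).2.2.1
    rw [specULiftZIsTerminal.hom_ext (specULiftZIsTerminal.from (DX.obj i))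
      (φ.app i ≫ specULiftZIsTerminal.from (DS.obj i))] at h4
    exact locallyOfFiniteType_of_comp _ (specULiftZIsTerminal.from (DS.obj i))
  · change (eX.inv ≫ cX.π.app i) ≫ φ.app i = f ≫ eS.inv ≫ cS.π.app i
    rw [Category.assoc, h3, Iso.inv_hom_id_assoc]

variable {X U S : Scheme.{u}} {f : X ⟶ U} (M : Model f) (v : U ⟶ S)

/-- The scheme `Z_i = X_i ×_{S_i} U`. -/
noncomputable abbrev Z (i : M.Iᵒᵖ) : Scheme.{u} := pullback (M.φ.app i) (M.πS.app i)

/-- The transition morphisms. -/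
noncomputable def zMap {i j : M.Iᵒᵖ} (m : i ⟶ j) : Z M i ⟶ Z M j :=
  pullback.lift (pullback.fst _ _ ≫ M.DX.map m) (pullback.snd _ _) (by
    have h1 : M.πS.app j = M.πS.app i ≫ M.DS.map m := by
      have := M.πS.naturality m
      simpa using this
    rw [Category.assoc, M.φ.naturality, h1, ← Category.assoc, pullback.condition, Category.assoc])

@[reassoc]
theorem zMap_fst {i j : M.Iᵒᵖ} (m : i ⟶ j) :
    zMap M m ≫ pullback.fst (M.φ.app j) (M.πS.app j) = pullback.fst _ _ ≫ M.DX.map m :=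
  pullback.lift_fst _ _ _

@[reassoc]
theorem zMap_snd {i j : M.Iᵒᵖ} (m : i ⟶ j) :
    zMap M m ≫ pullback.snd (M.φ.app j) (M.πS.app j) = pullback.snd _ _ :=
  pullback.lift_snd _ _ _

theorem zMap_id (i : M.Iᵒᵖ) : zMap M (𝟙 i) = 𝟙 _ := by
  apply pullback.hom_ext
  · rw [zMap_fst, M.DX.map_id, Category.comp_id, Category.id_comp]
  · rw [zMap_snd, Category.id_comp]

theorem zMap_comp {i j k : M.Iᵒᵖ} (m : i ⟶ j) (m' : j ⟶ k) : zMap M (m ≫ m') = zMap M m ≫ zMap M m' := by
  apply pullback.hom_ext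
  · rw [zMap_fst, M.DX.map_comp, Category.assoc, zMap_fst, zMap_fst_assoc]
  · rw [zMap_snd, Category.assoc, zMap_snd, zMap_snd]

/-- The map `X ⟶ Z_i`. -/
noncomputable def zπ (i : M.Iᵒᵖ) : X ⟶ Z M i := pullback.lift (M.πX.app i) f (M.w i)

@[reassoc]
theorem zπ_fst (i : M.Iᵒᵖ) : zπ M i ≫ pullback.fst _ _ = M.πX.app i := pullback.lift_fst _ _ _

@[reassoc]
theorem zπ_snd (i : M.Iᵒᵖ) : zπ M i ≫ pullback.snd _ _ = f := pullback.lift_snd _ _ _

@[reassoc]
theorem zπ_zMap {i j : M.Iᵒᵖ} (m : i ⟶ j) : zπ M i ≫ zMap M m = zπ M j := by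
  apply pullback.hom_ext
  · rw [Category.assoc, zMap_fst, zπ_fst_assoc, zπ_fst]
    have := M.πX.naturality m
    simpa using this.symm
  · rw [Category.assoc, zMap_snd, zπ_snd, zπ_snd]

/-- The diagram of the `Z_i` over `S`. -/
noncomputable def zD : M.Iᵒᵖ ⥤ Over S where
  obj i := Over.mk (pullback.snd (M.φ.app i) (M.πS.app i) ≫ v)
  map m := Over.homMk (zMap M m) (zMap_snd_assoc M m v)
  map_id i := by
    ext1
    exact zMap_id M i
  map_comp m m' := by
    ext1
    exact zMap_comp M m m'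

/-- The cone with vertex `X`. -/
noncomputable def zC : Cone (zD M v) where
  pt := Over.mk (f ≫ v)
  π :=
    { app i := Over.homMk (zπ M i) (zπ_snd_assoc M i v)
      naturality i j m := by
        ext1
        exact (Category.id_comp _).trans (zπ_zMap M m).symm }

section cone

variable {M v}

/-- The legs of a cone over `zD`. -/
noncomputable def leg (s : Cone (zD M v)) (i : M.Iᵒᵖ) : s.pt.left ⟶ Z M i := (s.π.app i).left

theorem leg_w (s : Cone (zD M v)) {i j : M.Iᵒᵖ} (m : i ⟶ j) : leg s i ≫ zMap M m = leg s j :=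
  congrArg (fun m => m.left) (s.w m)

theorem leg_hom (s : Cone (zD M v)) (i : M.Iᵒᵖ) : leg s i ≫ pullback.snd _ _ ≫ v = s.pt.hom :=
  Over.w (s.π.app i)

/-- The induced cone over `DX`. -/
noncomputable def coneX (s : Cone (zD M v)) : Cone M.DX where
  pt := s.pt.left
  π :=
    { app i := leg s i ≫ pullback.fst (M.φ.app i) (M.πS.app i)
      naturality i j m := by
        change 𝟙 _ ≫ leg s j ≫ _ = (leg s i ≫ _) ≫ M.DX.map m
        rw [Category.id_comp, ← leg_w s m, Category.assoc, Category.assoc, zMap_fst] }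

/-- The induced morphism to `X`. -/
noncomputable def toX (s : Cone (zD M v)) : s.pt.left ⟶ X := M.hX.lift (coneX s)

theorem toX_πX (s : Cone (zD M v)) (i : M.Iᵒᵖ) : toX s ≫ M.πX.app i = leg s i ≫ pullback.fst _ _ :=
  M.hX.fac (coneX s) i

theorem leg_snd (s : Cone (zD M v)) (i j : M.Iᵒᵖ) :
    leg s i ≫ pullback.snd (M.φ.app i) (M.πS.app i) = leg s j ≫ pullback.snd (M.φ.app j) (M.πS.app j) := by
  obtain ⟨k, a, b, -⟩ := IsCofilteredOrEmpty.cone_objs i j
  rw [← leg_w s a, ← leg_w s b, Category.assoc, Category.assoc, zMap_snd, zMap_snd]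

theorem toX_f (s : Cone (zD M v)) (i : M.Iᵒᵖ) : toX s ≫ f = leg s i ≫ pullback.snd _ _ := by
  refine M.hS.hom_ext fun j => ?_
  change (toX s ≫ f) ≫ M.πS.app j = (leg s i ≫ pullback.snd _ _) ≫ M.πS.app j
  rw [leg_snd s i j, Category.assoc, ← M.w j, Category.assoc, ← pullback.condition, ← Category.assoc,
    ← Category.assoc, toX_πX]

theorem toX_zπ (s : Cone (zD M v)) (i : M.Iᵒᵖ) : toX s ≫ zπ M i = leg s i := by
  apply pullback.hom_ext
  · rw [Category.assoc, zπ_fst, toX_πX]
  · rw [Category.assoc, zπ_snd, toX_f]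

end cone

/-- The limit of the `Z_i` is `X`. -/
noncomputable def isLimitZC : IsLimit (zC M v) where
  lift s := Over.homMk (toX s) (by
    change toX s ≫ f ≫ v = _
    rw [← Category.assoc, toX_f s (Opposite.op (Classical.arbitrary M.I)), Category.assoc, leg_hom])
  fac s i := by
    ext1
    exact toX_zπ s i
  uniq s m hm := by
    ext1
    refine M.hX.hom_ext fun i => ?_
    let m' : s.pt.left ⟶ X := m.left
    have h1 : m' ≫ zπ M i = leg s i := congrArg (fun m => m.left) (hm i)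
    change m' ≫ M.πX.app i = toX s ≫ M.πX.app i
    rw [toX_πX, ← zπ_fst M i, ← Category.assoc, h1]

theorem isAffineHom_πS (i : M.Iᵒᵖ) : IsAffineHom (M.πS.app i) :=
  have : ∀ {i j : M.Iᵒᵖ} (a : i ⟶ j), IsAffineHom (M.DS.map a) := fun a => M.affS _ _ a
  isAffineHom_π_app M.DS (Cone.mk U M.πS) M.hS i

theorem isAffineHom_zMap {i j : M.Iᵒᵖ} (m : i ⟶ j) : IsAffineHom (zMap M m) := by
  have h1 := isAffineHom_πS M i
  have h2 := isAffineHom_πS M j
  have h3 := M.affX i j m
  have h4 : IsAffineHom (zMap M m ≫ pullback.fst (M.φ.app j) (M.πS.app j)) := by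
    rw [zMap_fst]
    have h5 : IsAffineHom (pullback.fst (M.φ.app i) (M.πS.app i)) :=
      MorphismProperty.of_isPullback (P := @IsAffineHom) (IsPullback.of_hasPullback _ _).flip h1
    infer_instance
  have h6 : IsAffineHom (pullback.fst (M.φ.app j) (M.πS.app j)) :=
    MorphismProperty.of_isPullback (P := @IsAffineHom) (IsPullback.of_hasPullback _ _).flip h2
  exact IsAffineHom.of_comp _ (pullback.fst (M.φ.app j) (M.πS.app j))

instance isAffineHom_zD_map {i j : M.Iᵒᵖ} (m : i ⟶ j) : IsAffineHom ((zD M v).map m).left :=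
  isAffineHom_zMap M m

theorem locallyOfFinitePresentation_snd (i : M.Iᵒᵖ) :
    LocallyOfFinitePresentation (pullback.snd (M.φ.app i) (M.πS.app i)) := by
  have h1 : LocallyOfFinitePresentation (M.φ.app i) := inferInstance
  infer_instance

theorem qcqs_snd (i : M.Iᵒᵖ) : QuasiCompact (pullback.snd (M.φ.app i) (M.πS.app i)) ∧
    QuasiSeparated (pullback.snd (M.φ.app i) (M.πS.app i)) := by
  have h1 : QuasiCompact (M.φ.app i) := inferInstance
  have h2 : QuasiSeparated (M.φ.app i) := inferInstance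
  exact ⟨inferInstance, inferInstance⟩

end K339.FPSystem
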