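import Groth.Agent.Lim.K339.PairLim
import Groth.Agent.Lim.K339.ClosedLim
import Groth.Agent.S7383
import Groth.Agent.S2154
import Groth.Agent.CalgA.LimAffine

/-!
# Integral morphisms as limits of finite and finitely presented ones
-/

set_option autoImplicit false

universe u

open CategoryTheory AlgebraicGeometry Limits Opposite
open Groth.Agent.Smoothlim.ClosedFP

namespace K339.IntegralLim

/-- A closed subscheme finite over `S` is contained in a finitely presented one which is finite over `S`. -/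
theorem exists_finite_subscheme {X S : Scheme.{u}} (f : X ⟶ S) [LocallyOfFiniteType f] [CompactSpace X]
    [QuasiSeparatedSpace X] [CompactSpace S] [QuasiSeparatedSpace S] (L : X.IdealSheafData)
    [hL : IsFinite (L.subschemeι ≫ f)] :
    ∃ K₀ ≤ L, BlowUp.IsFiniteTypeIdeal K₀ ∧ IsFinite (K₀.subschemeι ≫ f) := by
  have hne : Nonempty (Idx L (⊥ : X.IdealSheafData)) := ⟨⟨⊥, le_rfl, bot_le, isFiniteTypeIdeal_bot⟩⟩
  have hfin : ∀ (a b : (Idx L (⊥ : X.IdealSheafData))ᵒᵖ) (m : a ⟶ b),
      IsFinite ((subD f L ⊥).map m).left := fun a b m => by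
    have : IsClosedImmersion ((subD f L ⊥).map m).left := inferInstance
    infer_instance
  have hft : ∀ a, LocallyOfFiniteType ((subD f L ⊥).obj a).hom := fun a =>
    (inferInstance : LocallyOfFiniteType (a.unop.1.subschemeι ≫ f))
  have hint : IsIntegralHom (subC f L ⊥).pt.hom := (inferInstance : IsIntegralHom (L.subschemeι ≫ f))
  obtain ⟨i₀, hi₀⟩ := Groth.Agent.S2154.result S (subD f L ⊥) (subC f L ⊥)
    (isLimitSubC f L ⊥ isFiniteTypeIdeal_bot bot_le)
  exact ⟨i₀.unop.1, i₀.unop.2.2.1, i₀.unop.2.2.2, hi₀ i₀ (𝟙 _)⟩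

/-- The scheme theoretic image of an integral scheme in an affine scheme of finite type is finite. -/
theorem isFinite_image {X Z S : Scheme.{u}} (h : X ⟶ Z) (z : Z ⟶ S) [hh : IsIntegralHom (h ≫ z)] [IsAffineHom z]
    [LocallyOfFiniteType z] : IsFinite (h.ker.subschemeι ≫ z) := by
  have hqc : QuasiCompact h := QuasiCompact.of_comp h z
  have e : h.toImage ≫ h.imageι ≫ z = h ≫ z := by rw [← Category.assoc, Scheme.Hom.toImage_imageι]
  have h1 : IsIntegralHom (h.toImage ≫ h.imageι ≫ z) := by rw [e]; exact hh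
  have h2 : IsIntegralHom h.toImage := .of_comp _ (h.imageι ≫ z)
  have h3 : Surjective h.toImage := by
    refine ⟨fun y => ?_⟩
    have hcl : IsClosed (Set.range h.toImage) := h.toImage.isClosedMap.isClosed_range
    have hd : DenseRange h.toImage := h.toImage.denseRange
    have h7 := hd.closure_range
    rw [hcl.closure_eq] at h7
    have h8 : y ∈ Set.range h.toImage := by rw [h7]; exact Set.mem_univ y
    exact h8
  have h4 : UniversallyClosed (h.toImage ≫ h.imageι ≫ z) := inferInstance
  have h5 : UniversallyClosed (h.imageι ≫ z) := UniversallyClosed.of_comp_surjective h.toImage _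
  have h6 : IsIntegralHom (h.imageι ≫ z) :=
    IsIntegralHom.iff_universallyClosed_and_isAffineHom.mpr ⟨h5, inferInstance⟩
  exact (IsFinite.iff_isIntegralHom_and_locallyOfFiniteType _).mpr ⟨h6, inferInstance⟩

section main

variable {S : Scheme.{u}} [CompactSpace S] [QuasiSeparatedSpace S] {I : Type u} [Preorder I]
  [IsDirected I (fun a b => a ≤ b)] [Nonempty I] (D : Iᵒᵖ ⥤ Over S) (c : Cone D) (hc : IsLimit c)
  [∀ i, LocallyOfFiniteType (D.obj i).hom] [∀ i, QuasiCompact (D.obj i).hom]
  [∀ i, QuasiSeparated (D.obj i).hom] [∀ {i j : Iᵒᵖ} (a : i ⟶ j), IsAffineHom (D.map a).left]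

include hc in
/-- Cofinally many stages are affine over `S` if the limit is. -/
theorem exists_affine_stage [haff : IsAffineHom c.pt.hom] (i : I) : ∃ j, i ≤ j ∧ IsAffineHom (D.obj (op j)).hom := by
  have h1 : ∀ {i j : Iᵒᵖ} (h : i ⟶ j), IsAffineHom ((D ⋙ Over.forget S).map h) := fun {i j} h =>
    (inferInstance : IsAffineHom (D.map h).left)
  have h2 : ∀ {i j : Iᵒᵖ} (h : i ⟶ j), IsAffineHom (((Functor.const Iᵒᵖ).obj S).map h) := fun {i j} h =>
    (inferInstance : IsAffineHom (𝟙 S))
  have h3 : ∀ i, CompactSpace ((D ⋙ Over.forget S).obj i) := fun i =>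
    (QuasiCompact.compactSpace_of_compactSpace (D.obj i).hom : CompactSpace (D.obj i).left)
  have h4 : ∀ i, QuasiSeparatedSpace ((D ⋙ Over.forget S).obj i) := fun i =>
    (quasiSeparatedSpace_of_quasiSeparated (D.obj i).hom : QuasiSeparatedSpace (D.obj i).left)
  have h5 : QuasiSeparatedSpace (((Functor.const Iᵒᵖ).obj S).obj (op i)) := ‹QuasiSeparatedSpace S›
  have h6 : CompactSpace (((Functor.const Iᵒᵖ).obj S).obj (op i)) := ‹CompactSpace S›
  have h7 : IsAffineHom (((Over.forget S).mapCone c).π.app (op i) ≫ (toConst D).app (op i)) := by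
    have e : ((Over.forget S).mapCone c).π.app (op i) ≫ (toConst D).app (op i) = c.pt.hom :=
      Over.w (c.π.app (op i))
    rw [e]
    exact haff
  obtain ⟨j, a, hj⟩ := Groth.Agent.CalgA.LimAffine.exists_isAffineHom_of_isLimit (toConst D)
    ((Over.forget S).mapCone c) (isLimitOfPreserves (Over.forget S) hc) (op i)
  exact ⟨j.unop, leOfHom a.unop, hj⟩

include hc in
theorem good [hint : IsIntegralHom c.pt.hom] :
    PairLim.Good D c (fun i K => IsFinite (K.subschemeι ≫ PairLim.zs D i)) := by
  intro i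
  obtain ⟨j, hij, hj⟩ := exists_affine_stage D c hc i
  have hj' : IsAffineHom (PairLim.zs D j) := hj
  have h1 : LocallyOfFiniteType (PairLim.zs D j) := (inferInstance : LocallyOfFiniteType (D.obj (op j)).hom)
  have h2 : CompactSpace (PairLim.Zs D j) := QuasiCompact.compactSpace_of_compactSpace (D.obj (op j)).hom
  have h3 : QuasiSeparatedSpace (PairLim.Zs D j) := quasiSeparatedSpace_of_quasiSeparated (D.obj (op j)).hom
  have h4 : IsIntegralHom (PairLim.pr c j ≫ PairLim.zs D j) := by
    have e : PairLim.pr c j ≫ PairLim.zs D j = c.pt.hom := Over.w (c.π.app (op j))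
    rw [e]
    exact hint
  have h5 := isFinite_image (PairLim.pr c j) (PairLim.zs D j)
  obtain ⟨K₀, h6, h7, h8⟩ := exists_finite_subscheme (PairLim.zs D j) (PairLim.pr c j).ker
  exact ⟨j, hij, K₀, h6, h7, fun K hK _ _ => ClosedLim.isFinite_subscheme_of_le _ hK⟩

end main

end K339.IntegralLim
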