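import Groth.Agent.S0590
import Groth.Agent.S0591
import Groth.Agent.Smoothlim.ProperDescend

/-!
# A separated finitely presented scheme over a qcqs base comes from a Noetherian stage
-/

set_option autoImplicit false

universe u

open CategoryTheory AlgebraicGeometry Limits
open Groth.Agent.Smoothlim

namespace K339.SepModel

/-- A separated finitely presented scheme over a qcqs base `S = lim D_i` (with `D_i` Noetherian) is the base change
of a separated scheme of finite type over some stage. -/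
theorem exists_model {Y S : Scheme.{u}} (g : Y ⟶ S) [CompactSpace S] [QuasiSeparatedSpace S] [IsSeparated g]
    [LocallyOfFinitePresentation g] [QuasiCompact g] :
    ∃ (I : Type u) (_ : SmallCategory I) (_ : IsCofiltered I) (D : I ⥤ Scheme.{u}) (c : Cone D) (_ : IsLimit c)
      (e : c.pt ≅ S) (i₀ : I) (Y₀ : Scheme.{u}) (g₀ : Y₀ ⟶ D.obj i₀) (q : Y ⟶ Y₀),
      IsPullback q (g ≫ e.inv) g₀ (c.π.app i₀) ∧ IsSeparated g₀ ∧ LocallyOfFinitePresentation g₀ ∧
      QuasiCompact g₀ ∧ (∀ (i j : I) (f : i ⟶ j), IsAffineHom (D.map f)) ∧ (∀ i, IsNoetherian (D.obj i)) := by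
  obtain ⟨A, _, _, _, D, c, hc, hD, hA, ⟨e⟩⟩ := Groth.Agent.S0590.result S
  have hZ : IsNoetherianRing (ULift.{u} ℤ) :=
    isNoetherianRing_of_ringEquiv ℤ ULift.ringEquiv.symm
  have hZ' : IsLocallyNoetherian (Spec (CommRingCat.of (ULift.{u} ℤ))) := by
    have : IsNoetherianRing (CommRingCat.of (ULift.{u} ℤ)) := hZ
    infer_instance
  have i1 : ∀ (i j : Aᵒᵖ) (m : i ⟶ j), IsAffineHom (D.map m) := fun _ _ m => hD _ _ m
  have i2 : ∀ i, CompactSpace (D.obj i) := fun i => (hA i).1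
  have i5 : ∀ i, IsLocallyNoetherian (D.obj i) := fun i => by
    have := (hA i).2
    exact LocallyOfFiniteType.isLocallyNoetherian
      (Limits.IsTerminal.from specULiftZIsTerminal (D.obj i))
  have i3 : ∀ i, QuasiSeparatedSpace (D.obj i) := fun i => inferInstance
  have i4 : ∀ i, IsNoetherian (D.obj i) := fun i => ⟨⟩
  obtain ⟨i₁, Y₁, g₁, q₁, h1, h2, h3, sq₁⟩ := Groth.Agent.S0591.result D c hc Y (g ≫ e.inv)
  have hsep : IsSeparated (g ≫ e.inv) := inferInstance
  have sq₀ : IsPullback (c.π.app i₁) (𝟙 c.pt) (𝟙 (D.obj i₁)) (c.π.app i₁) :=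
    IsPullback.of_id_snd
  obtain ⟨i₀, φ, hφ⟩ := LimBase.exists_descend LimBase.descendsAffine_isSeparated D c hc i₁ g₁ (𝟙 _)
    (g ≫ e.inv) (𝟙 _) (c.π.app i₁) q₁ sq₀ sq₁ ⟨h2, h3⟩ hsep
  have hφ' : IsSeparated (pullback.snd g₁ (D.map φ)) := by
    have h := LimBase.snd_comp @IsSeparated g₁ _ (pullback.lift (D.map φ) (𝟙 _) (by simp)) hφ
    rwa [pullback.lift_fst] at h
  have sq₂ : IsPullback (pullback.fst g₁ (D.map φ)) (pullback.snd g₁ (D.map φ)) g₁ (D.map φ) :=
    IsPullback.of_hasPullback _ _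
  let q : Y ⟶ pullback g₁ (D.map φ) := pullback.lift q₁ ((g ≫ e.inv) ≫ c.π.app i₀) (by
    have hw := c.w φ
    rw [sq₁.w, Category.assoc (g ≫ e.inv), hw])
  have hq1 : q ≫ pullback.fst g₁ (D.map φ) = q₁ := pullback.lift_fst _ _ _
  have hq2 : q ≫ pullback.snd g₁ (D.map φ) = (g ≫ e.inv) ≫ c.π.app i₀ := pullback.lift_snd _ _ _
  refine ⟨Aᵒᵖ, inferInstance, inferInstance, D, c, hc, e, i₀, pullback g₁ (D.map φ),
    pullback.snd g₁ (D.map φ), q, ?_, hφ', inferInstance, inferInstance, i1, i4⟩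
  refine IsPullback.of_right (h₁₂ := pullback.fst g₁ (D.map φ)) (h₂₂ := D.map φ) (v₁₃ := g₁) ?_ hq2 sq₂
  have hw := c.w φ
  rw [hq1, hw]
  exact sq₁

end K339.SepModel
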