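import Mathlib.AlgebraicGeometry.AffineTransitionLimit

/-!
# A morphism between two limits as a limit of morphisms

`X = lim X_a` and `S = lim S_b` over directed preorders, the `X_a` quasi-compact and quasi-separated with affine
transition morphisms, the `S_b` of finite presentation over a terminal object `Z`. A morphism `f : X ⟶ S` is the limit
of the morphisms `X_a ⟶ S_b` compatible with `f`, indexed by the directed preorder of triples.
-/

set_option autoImplicit false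

universe u

open CategoryTheory AlgebraicGeometry Limits Opposite

namespace K339.ArrowLim

variable {A B : Type u} [Preorder A] [Preorder B] (DA : Aᵒᵖ ⥤ Scheme.{u}) (DB : Bᵒᵖ ⥤ Scheme.{u})
  (cA : Cone DA) (cB : Cone DB) (f : cA.pt ⟶ cB.pt)

/-- The triples `(a, b, φ : X_a ⟶ S_b)` with `φ` compatible with `f`. -/
structure Tri : Type u where
  a : A
  b : B
  φ : DA.obj (op a) ⟶ DB.obj (op b)
  w : cA.π.app (op a) ≫ φ = f ≫ cB.π.app (op b)

variable {DA DB cA cB f}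

/-- Compatibility of two triples. -/
def Tri.Le (s t : Tri DA DB cA cB f) : Prop :=
  ∃ (ha : s.a ≤ t.a) (hb : s.b ≤ t.b), DA.map (homOfLE ha).op ≫ s.φ = t.φ ≫ DB.map (homOfLE hb).op

instance : Preorder (Tri DA DB cA cB f) where
  le := Tri.Le
  le_refl s := ⟨le_rfl, le_rfl, by
    rw [show (homOfLE (le_refl s.a)).op = 𝟙 _ from rfl, show (homOfLE (le_refl s.b)).op = 𝟙 _ from rfl,
      DA.map_id, DB.map_id, Category.id_comp, Category.comp_id]⟩
  le_trans s t r := by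
    rintro ⟨ha, hb, h⟩ ⟨ha', hb', h'⟩
    refine ⟨ha.trans ha', hb.trans hb', ?_⟩
    rw [show (homOfLE (ha.trans ha')).op = (homOfLE ha').op ≫ (homOfLE ha).op from rfl,
      show (homOfLE (hb.trans hb')).op = (homOfLE hb').op ≫ (homOfLE hb).op from rfl, DA.map_comp,
      DB.map_comp, Category.assoc, h, reassoc_of% h']

theorem Tri.le_iff {s t : Tri DA DB cA cB f} : s ≤ t ↔
    ∃ (ha : s.a ≤ t.a) (hb : s.b ≤ t.b), DA.map (homOfLE ha).op ≫ s.φ = t.φ ≫ DB.map (homOfLE hb).op :=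
  Iff.rfl

/-- Enlarging the first index of a triple. -/
def Tri.shift (r : Tri DA DB cA cB f) {a : A} (h : r.a ≤ a) : Tri DA DB cA cB f where
  a := a
  b := r.b
  φ := DA.map (homOfLE h).op ≫ r.φ
  w := by rw [cA.w_assoc, r.w]

theorem Tri.le_shift {s r : Tri DA DB cA cB f} {a : A} (h : r.a ≤ a) (ha : s.a ≤ a) (hb : s.b ≤ r.b)
    (e : DA.map (homOfLE ha).op ≫ s.φ = DA.map (homOfLE h).op ≫ r.φ ≫ DB.map (homOfLE hb).op) :
    s ≤ r.shift h :=
  ⟨ha, hb, e.trans (Category.assoc _ _ _).symm⟩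

variable (DA DB cA cB f)

theorem mono_a : Monotone (fun s : Tri DA DB cA cB f => s.a) := fun _ _ h => h.1

theorem mono_b : Monotone (fun s : Tri DA DB cA cB f => s.b) := fun _ _ h => h.2.1

variable (hcA : IsLimit cA) [IsDirected A (fun a b => a ≤ b)] [Nonempty A] [IsDirected B (fun a b => a ≤ b)]
  [Nonempty B] [∀ {i j : Aᵒᵖ} (m : i ⟶ j), IsAffineHom (DA.map m)] [∀ i, CompactSpace (DA.obj i)]
  [∀ i, QuasiSeparatedSpace (DA.obj i)] {Z : Scheme.{u}} (hZ : IsTerminal Z)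
  [∀ i, LocallyOfFinitePresentation (hZ.from (DB.obj i))]

include hcA hZ

omit [IsDirected B (fun a b => a ≤ b)] [Nonempty B] in
theorem exists_tri (a₀ : A) (b : B) : ∃ s : Tri DA DB cA cB f, a₀ ≤ s.a ∧ s.b = b := by
  have : IsCofiltered Aᵒᵖ := inferInstance
  let t : DA ⟶ (Functor.const _).obj Z :=
    { app i := hZ.from _
      naturality _ _ _ := hZ.hom_ext _ _ }
  obtain ⟨i, g, hg, -⟩ := Scheme.exists_π_app_comp_eq_of_locallyOfFinitePresentation DA t
    (hZ.from (DB.obj (op b))) cA hcA (f ≫ cB.π.app (op b)) (by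
      ext i
      exact hZ.hom_ext _ _)
  obtain ⟨a₁, ha₀, ha₁⟩ := exists_ge_ge a₀ i.unop
  refine ⟨⟨a₁, b, DA.map (homOfLE ha₁).op ≫ g, ?_⟩, ha₀, rfl⟩
  rw [← hg, ← cA.w (homOfLE ha₁).op, Category.assoc]

omit [Nonempty B] in
theorem directed (s t : Tri DA DB cA cB f) : ∃ r, s ≤ r ∧ t ≤ r := by
  have : IsCofiltered Aᵒᵖ := inferInstance
  have hft : ∀ i, LocallyOfFiniteType (hZ.from (DB.obj i)) := fun i => inferInstance
  let τ : DA ⟶ (Functor.const _).obj Z :=
    { app i := hZ.from _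
      naturality _ _ _ := hZ.hom_ext _ _ }
  obtain ⟨b, hsb, htb⟩ := exists_ge_ge s.b t.b
  obtain ⟨a₀, hsa, hta⟩ := exists_ge_ge s.a t.a
  obtain ⟨r, har, hrb⟩ := exists_tri DA DB cA cB f hcA hZ a₀ b
  subst hrb
  obtain ⟨k₁, m₁, h₁⟩ := Scheme.exists_hom_comp_eq_comp_of_locallyOfFiniteType DA τ
    (hZ.from (DB.obj (op s.b))) cA hcA (i := op r.a) (DA.map (homOfLE (hsa.trans har)).op ≫ s.φ)
    (r.φ ≫ DB.map (homOfLE hsb).op) (hZ.hom_ext _ _) (hZ.hom_ext _ _) (by
      rw [cA.w_assoc, s.w, reassoc_of% r.w, cB.w])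
  obtain ⟨k₂, m₂, h₂⟩ := Scheme.exists_hom_comp_eq_comp_of_locallyOfFiniteType DA τ
    (hZ.from (DB.obj (op t.b))) cA hcA (i := op r.a) (DA.map (homOfLE (hta.trans har)).op ≫ t.φ)
    (r.φ ≫ DB.map (homOfLE htb).op) (hZ.hom_ext _ _) (hZ.hom_ext _ _) (by
      rw [cA.w_assoc, t.w, reassoc_of% r.w, cB.w])
  obtain ⟨a₁, ha₁, ha₂⟩ := exists_ge_ge k₁.unop k₂.unop
  have hk₁ : r.a ≤ k₁.unop := leOfHom m₁.unop
  have hk₂ : r.a ≤ k₂.unop := leOfHom m₂.unop
  refine ⟨r.shift (hk₁.trans ha₁), Tri.le_shift _ ((hsa.trans har).trans (hk₁.trans ha₁)) hsb ?_,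
    Tri.le_shift _ ((hta.trans har).trans (hk₁.trans ha₁)) htb ?_⟩
  · have e1 : (homOfLE ((hsa.trans har).trans (hk₁.trans ha₁))).op =
        (homOfLE ha₁).op ≫ m₁ ≫ (homOfLE (hsa.trans har)).op := Subsingleton.elim _ _
    have e2 : (homOfLE (hk₁.trans ha₁)).op = (homOfLE ha₁).op ≫ m₁ := Subsingleton.elim _ _
    rw [e1, e2, DA.map_comp, DA.map_comp, DA.map_comp]
    simp only [Category.assoc]
    rw [h₁]
  · have e1 : (homOfLE ((hta.trans har).trans (hk₁.trans ha₁))).op =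
        (homOfLE ha₂).op ≫ m₂ ≫ (homOfLE (hta.trans har)).op := Subsingleton.elim _ _
    have e2 : (homOfLE (hk₁.trans ha₁)).op = (homOfLE ha₂).op ≫ m₂ := Subsingleton.elim _ _
    rw [e1, e2, DA.map_comp, DA.map_comp, DA.map_comp]
    simp only [Category.assoc]
    rw [h₂]

theorem isDirected : IsDirected (Tri DA DB cA cB f) (fun a b => a ≤ b) :=
  ⟨directed DA DB cA cB f hcA hZ⟩

omit [IsDirected B (fun a b => a ≤ b)] in
theorem nonempty_tri : Nonempty (Tri DA DB cA cB f) :=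
  let ⟨s, _⟩ := exists_tri DA DB cA cB f hcA hZ (Classical.arbitrary A) (Classical.arbitrary B)
  ⟨s⟩

theorem final_a : (mono_a DA DB cA cB f).functor.Final := by
  have := isDirected DA DB cA cB f hcA hZ
  rw [Monotone.final_functor_iff]
  intro a
  obtain ⟨s, hs, -⟩ := exists_tri DA DB cA cB f hcA hZ a (Classical.arbitrary B)
  exact ⟨s, hs⟩

theorem final_b : (mono_b DA DB cA cB f).functor.Final := by
  have := isDirected DA DB cA cB f hcA hZ
  rw [Monotone.final_functor_iff]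
  intro b
  obtain ⟨s, -, hs⟩ := exists_tri DA DB cA cB f hcA hZ (Classical.arbitrary A) b
  exact ⟨s, hs.ge⟩

omit hcA hZ [IsDirected A (fun a b => a ≤ b)] [Nonempty A] [IsDirected B (fun a b => a ≤ b)] [Nonempty B]
  [∀ {i j : Aᵒᵖ} (m : i ⟶ j), IsAffineHom (DA.map m)] [∀ i, CompactSpace (DA.obj i)]
  [∀ i, QuasiSeparatedSpace (DA.obj i)] [∀ i, LocallyOfFinitePresentation (hZ.from (DB.obj i))]

/-- The natural transformation formed by the maps of the triples. -/
def trans : (mono_a DA DB cA cB f).functor.op ⋙ DA ⟶ (mono_b DA DB cA cB f).functor.op ⋙ DB where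
  app s := s.unop.φ
  naturality s t m := by
    obtain ⟨ha, hb, h⟩ := Tri.le_iff.mp (leOfHom m.unop)
    exact h

end K339.ArrowLim
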