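import Mathlib.AlgebraicGeometry.Morphisms.ClosedImmersion
import Mathlib.AlgebraicGeometry.AffineTransitionLimit

/-!
# The intersection of a family of closed subschemes as a limit
-/

set_option autoImplicit false

universe u

open CategoryTheory AlgebraicGeometry Limits Opposite

namespace K339.ChainLim

variable {T : Scheme.{u}} (C : Set T.IdealSheafData)

/-- The closed subschemes of a set of ideals. -/
noncomputable def cD : (C : Type u)ᵒᵖ ⥤ Over T where
  obj K := Over.mk K.unop.1.subschemeι
  map {K K'} h := Over.homMk (Scheme.IdealSheafData.inclusion (leOfHom h.unop : K'.unop.1 ≤ K.unop.1))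
    (Scheme.IdealSheafData.inclusion_subschemeι _)
  map_id K := by
    ext1
    exact Scheme.IdealSheafData.inclusion_id _
  map_comp {K K' K''} h h' := by
    ext1
    exact (Scheme.IdealSheafData.inclusion_comp _ _).symm

/-- The cone given by the supremum. -/
noncomputable def cC : Cone (cD C) where
  pt := Over.mk (sSup C).subschemeι
  π :=
    { app K := Over.homMk (Scheme.IdealSheafData.inclusion (le_sSup K.unop.2))
        (Scheme.IdealSheafData.inclusion_subschemeι _)
      naturality K K' m := by
        ext1
        exact (Category.id_comp _).trans (Scheme.IdealSheafData.inclusion_comp _ _).symm }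

section

variable {C}

/-- The legs of a cone. -/
noncomputable def leg (s : Cone (cD C)) (K : C) : s.pt.left ⟶ K.1.subscheme := (s.π.app (op K)).left

theorem leg_fac (s : Cone (cD C)) (K : C) : leg s K ≫ K.1.subschemeι = s.pt.hom := Over.w (s.π.app (op K))

theorem le_ker (s : Cone (cD C)) (p : s.pt.left ⟶ T) (hp : p = s.pt.hom) : sSup C ≤ p.ker := by
  refine sSup_le fun K hK => ?_
  have e : leg s ⟨K, hK⟩ ≫ K.subschemeι = p := (leg_fac s ⟨K, hK⟩).trans hp.symm
  rw [← e]
  refine le_trans ?_ (Scheme.Hom.le_ker_comp _ _)
  rw [Scheme.IdealSheafData.ker_subschemeι]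

/-- The factorization through the intersection. -/
noncomputable def coneLift (s : Cone (cD C)) : s.pt.left ⟶ (sSup C).subscheme :=
  IsClosedImmersion.lift (sSup C).subschemeι s.pt.hom (by
    rw [Scheme.IdealSheafData.ker_subschemeι]
    exact le_ker s _ rfl)

theorem coneLift_fac (s : Cone (cD C)) : coneLift s ≫ (sSup C).subschemeι = s.pt.hom :=
  IsClosedImmersion.lift_fac _ _ _

end

/-- The closed subscheme of the supremum is the limit. -/
noncomputable def isLimitCC : IsLimit (cC C) where
  lift s := Over.homMk (coneLift s) (coneLift_fac s)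
  fac s K := by
    have key : coneLift s ≫ Scheme.IdealSheafData.inclusion (le_sSup K.unop.2) = leg s K.unop := by
      rw [← cancel_mono K.unop.1.subschemeι, Category.assoc, Scheme.IdealSheafData.inclusion_subschemeι,
        coneLift_fac, leg_fac]
    ext1
    exact key
  uniq s m hm := by
    let m' : s.pt.left ⟶ (sSup C).subscheme := m.left
    have hm' : m' ≫ (sSup C).subschemeι = s.pt.hom := Over.w m
    have key : m' = coneLift s := by
      rw [← cancel_mono (sSup C).subschemeι, hm', coneLift_fac]
    ext1
    exact key

instance (K K' : (C : Type u)ᵒᵖ) (m : K ⟶ K') : IsClosedImmersion ((cD C).map m).left := by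
  have h : K'.unop.1 ≤ K.unop.1 := leOfHom m.unop
  have h1 : IsClosedImmersion (Scheme.IdealSheafData.inclusion h ≫ K'.unop.1.subschemeι) := by
    rw [Scheme.IdealSheafData.inclusion_subschemeι]
    infer_instance
  exact IsClosedImmersion.of_comp_isClosedImmersion (Scheme.IdealSheafData.inclusion h) K'.unop.1.subschemeι

attribute [local instance] IsCofiltered.isConnected

/-- The intersection of a chain of nonempty closed subschemes of a quasi-compact scheme is not empty. -/
theorem nonempty_sSup [CompactSpace T] (hC : C.Nonempty) (hch : IsChain (fun a b => a ≤ b) C)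
    (h : ∀ K ∈ C, Nonempty K.subscheme) : Nonempty (sSup C).subscheme := by
  have : Nonempty C := hC.to_subtype
  have : IsDirectedOrder C := ⟨fun a b => by
    rcases hch.total a.2 b.2 with hab | hba
    · exact ⟨b, hab, le_rfl⟩
    · exact ⟨a, le_rfl, hba⟩⟩
  have hlim : IsLimit ((Over.forget T).mapCone (cC C)) := isLimitOfPreserves (Over.forget T) (isLimitCC C)
  have h1 : ∀ {i j : (C : Type u)ᵒᵖ} (m : i ⟶ j), IsAffineHom ((cD C ⋙ Over.forget T).map m) := fun {i j} m => by
    have h2 : IsClosedImmersion ((cD C).map m).left := inferInstance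
    exact (inferInstance : IsAffineHom ((cD C).map m).left)
  have h3 : ∀ i : (C : Type u)ᵒᵖ, Nonempty ((cD C ⋙ Over.forget T).obj i) := fun i => h _ i.unop.2
  have h4 : ∀ i : (C : Type u)ᵒᵖ, CompactSpace ((cD C ⋙ Over.forget T).obj i) := fun i =>
    (QuasiCompact.compactSpace_of_compactSpace i.unop.1.subschemeι : CompactSpace i.unop.1.subscheme)
  exact Scheme.nonempty_of_isLimit _ _ hlim

end K339.ChainLim
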