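import Groth.Agent.S0025
import Groth.Agent.Dix.ProjProper

/-!
# Chow's lemma by base change from a Noetherian model

`chow_step`: `X ⟶ S` mapping to a finite type `Z ⟶ D` with `D` Noetherian such that `X ⟶ Z ×_D S` is an immersion.
-/

set_option autoImplicit false

universe u

open CategoryTheory AlgebraicGeometry Limits
open Groth.Agent.Dix.ProjProper

namespace K339.ChowStep

/-- Restrictions of pullbacks. -/
theorem isPullback_restrict {X Y X' Y' : Scheme.{u}} {q : X' ⟶ Y'} {π : X' ⟶ X} {ρ : Y' ⟶ Y} {h : X ⟶ Y}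
    (sq : IsPullback q π ρ h) (U : Y.Opens) :
    ∃ l : ((π ⁻¹ᵁ h ⁻¹ᵁ U : X'.Opens) : Scheme.{u}) ⟶ (ρ ⁻¹ᵁ U : Y'.Opens),
      IsPullback l (π ∣_ (h ⁻¹ᵁ U)) (ρ ∣_ U) (h ∣_ U) := by
  have h1 := (isPullback_morphismRestrict π (h ⁻¹ᵁ U)).flip
  have h2 := (isPullback_morphismRestrict ρ U).flip
  have h3 := (isPullback_morphismRestrict h U)
  have h4 := h1.paste_horiz sq
  have e : (π ⁻¹ᵁ h ⁻¹ᵁ U).ι ≫ q ≫ ρ = (π ∣_ (h ⁻¹ᵁ U)) ≫ (h ∣_ U) ≫ U.ι := by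
    rw [sq.w, ← Category.assoc, h1.w, Category.assoc, h3.w]
  refine ⟨h2.lift ((π ⁻¹ᵁ h ⁻¹ᵁ U).ι ≫ q) ((π ∣_ (h ⁻¹ᵁ U)) ≫ (h ∣_ U)) (by simpa using e), ?_⟩
  refine IsPullback.of_right (h₁₂ := (ρ ⁻¹ᵁ U).ι) (h₂₂ := U.ι) (v₁₃ := ρ) ?_ ?_ h2
  · rw [h2.lift_fst, h3.w]
    exact h4
  · exact h2.lift_snd _ _ _

theorem chow_step {X S Z D : Scheme.{u}} (f : X ⟶ S) (h : X ⟶ Z) (g : Z ⟶ D) (p : S ⟶ D) (w : h ≫ g = f ≫ p)
    [IsNoetherian D] [IsSeparated g] [LocallyOfFiniteType g] [QuasiCompact g]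
    (himm : IsImmersion (pullback.lift h f w)) :
    ∃ (n : ℕ) (X' : Scheme.{u}) (π : X' ⟶ X) (j : X' ⟶ CohB1.ProjSpaceOver n S),
      IsImmersion j ∧ j ≫ CohB1.ProjSpaceOver.toBase n S = π ≫ f ∧ IsProper π ∧ Surjective π ∧
      ∃ U : Z.Opens, Dense (U : Set Z) ∧ IsIso (π ∣_ (h ⁻¹ᵁ U)) := by
  obtain ⟨n, Z', ρ, j', hj', hj'w, hρ, hρs, U, hU, hiso⟩ := Groth.Agent.S0025.result g
  have sq : IsPullback (pullback.snd h ρ) (pullback.fst h ρ) ρ h := (IsPullback.of_hasPullback h ρ).flip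
  let π := pullback.fst h ρ
  let q := pullback.snd h ρ
  have hqπ : q ≫ ρ = π ≫ h := sq.w
  let P := CohB1.ProjSpaceOver n S
  have sqP := isPullback_mapBase n p
  let Q' := pullback (ρ ≫ g) p
  have sqQ : IsPullback (pullback.fst g p) (pullback.snd g p) g p := IsPullback.of_hasPullback g p
  have sqQ' : IsPullback (pullback.fst (ρ ≫ g) p) (pullback.snd (ρ ≫ g) p) (ρ ≫ g) p :=
    IsPullback.of_hasPullback (ρ ≫ g) p
  -- `Q' ⟶ Q`
  let r : Q' ⟶ pullback g p := sqQ.lift (pullback.fst (ρ ≫ g) p ≫ ρ) (pullback.snd (ρ ≫ g) p) (by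
    rw [Category.assoc, sqQ'.w])
  have hr1 : r ≫ pullback.fst g p = pullback.fst (ρ ≫ g) p ≫ ρ := sqQ.lift_fst _ _ _
  have hr2 : r ≫ pullback.snd g p = pullback.snd (ρ ≫ g) p := sqQ.lift_snd _ _ _
  have sqr : IsPullback (pullback.fst (ρ ≫ g) p) r ρ (pullback.fst g p) := by
    refine IsPullback.of_bot (v₂₁ := pullback.snd g p) (v₂₂ := g) (h₃₁ := p) ?_ hr1.symm sqQ
    rw [hr2]
    exact sqQ'
  -- `Q' ⟶ P`
  let b : Q' ⟶ P := sqP.lift (pullback.fst (ρ ≫ g) p ≫ j') (pullback.snd (ρ ≫ g) p) (by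
    rw [Category.assoc, hj'w, sqQ'.w])
  have hb1 : b ≫ mapBase n p = pullback.fst (ρ ≫ g) p ≫ j' := sqP.lift_fst _ _ _
  have hb2 : b ≫ CohB1.ProjSpaceOver.toBase n S = pullback.snd (ρ ≫ g) p := sqP.lift_snd _ _ _
  have sqb : IsPullback (pullback.fst (ρ ≫ g) p) b j' (mapBase n p) := by
    refine IsPullback.of_bot (v₂₁ := CohB1.ProjSpaceOver.toBase n S) (v₂₂ := CohB1.ProjSpaceOver.toBase n D)
      (h₃₁ := p) ?_ hb1.symm sqP
    rw [hb2, hj'w]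
    exact sqQ'
  have hbimm : IsImmersion b := MorphismProperty.of_isPullback (P := @IsImmersion) sqb hj'
  -- `X' ⟶ Q'`
  let i : X ⟶ pullback g p := pullback.lift h f w
  have hi1 : i ≫ pullback.fst g p = h := pullback.lift_fst _ _ _
  have hi2 : i ≫ pullback.snd g p = f := pullback.lift_snd _ _ _
  let a : pullback h ρ ⟶ Q' := sqQ'.lift q (π ≫ f) (by
    rw [← Category.assoc, hqπ, Category.assoc, Category.assoc, w])
  have ha1 : a ≫ pullback.fst (ρ ≫ g) p = q := sqQ'.lift_fst _ _ _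
  have ha2 : a ≫ pullback.snd (ρ ≫ g) p = π ≫ f := sqQ'.lift_snd _ _ _
  have sqa : IsPullback a π r i := by
    refine IsPullback.of_right (h₁₂ := pullback.fst (ρ ≫ g) p) (h₂₂ := pullback.fst g p) (v₁₃ := ρ) ?_ ?_ sqr
    · rw [ha1, hi1]
      exact sq
    · refine sqQ.hom_ext ?_ ?_
      · rw [Category.assoc, hr1, reassoc_of% ha1, Category.assoc, hi1, hqπ]
      · rw [Category.assoc, hr2, ha2, Category.assoc, hi2]
  have haimm : IsImmersion a := MorphismProperty.of_isPullback (P := @IsImmersion) sqa.flip himm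
  obtain ⟨l, hl⟩ := isPullback_restrict sq U
  refine ⟨n, pullback h ρ, π, a ≫ b, inferInstance, ?_, inferInstance, inferInstance, U, hU, ?_⟩
  · rw [Category.assoc, hb2, ha2]
  · exact MorphismProperty.of_isPullback (P := .isomorphisms _) hl hiso

end K339.ChowStep
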