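import Mathlib.LinearAlgebra.Dimension.StrongRankCondition
import Mathlib.RingTheory.TensorProduct.Nontrivial
import Mathlib.Algebra.Algebra.Pi
import Mathlib.RingTheory.Ideal.Quotient.Operations

/-!
# Common extensions of families of fields

* `exists_common_finset`: finitely many field extensions of `k` embed in a common one.
* `exists_common`: an arbitrary family of field extensions of `k` maps to a common nonzero `k`-algebra.
-/

set_option autoImplicit false
universe u

open TensorProduct

namespace K339.CommonExt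

variable {I : Type u} (k : Type u) [Field k] (K : I → Type u) [∀ i, Field (K i)] [∀ i, Algebra k (K i)]

/-- Finitely many extensions of a field `k` embed into a common one. -/
theorem exists_common_finset (s : Finset I) :
    ∃ (Ω : Type u) (_ : Field Ω) (_ : Algebra k Ω), ∀ i ∈ s, Nonempty (K i →ₐ[k] Ω) := by
  classical
  induction s using Finset.induction_on with
  | empty => exact ⟨k, inferInstance, inferInstance, by simp⟩
  | insert j s hj ih =>
    obtain ⟨Ω, _, _, h⟩ := ih
    have : Nontrivial (K j ⊗[k] Ω) :=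
      Algebra.TensorProduct.nontrivial_of_algebraMap_injective_of_isDomain k (K j) Ω
        (algebraMap k (K j)).injective (algebraMap k Ω).injective
    obtain ⟨m, hm⟩ := Ideal.exists_maximal (K j ⊗[k] Ω)
    refine ⟨(K j ⊗[k] Ω) ⧸ m, Ideal.Quotient.field m, inferInstance, fun i hi => ?_⟩
    rcases Finset.mem_insert.1 hi with rfl | hi
    · exact ⟨(Ideal.Quotient.mkₐ k m).comp Algebra.TensorProduct.includeLeft⟩
    · obtain ⟨g⟩ := h i hi
      exact ⟨((Ideal.Quotient.mkₐ k m).comp Algebra.TensorProduct.includeRight).comp g⟩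

/-- An arbitrary family of field extensions of `k` maps to a common nonzero `k`-algebra. -/
theorem exists_common :
    ∃ (Ω : Type u) (_ : CommRing Ω) (_ : Nontrivial Ω) (_ : Algebra k Ω), ∀ i, Nonempty (K i →ₐ[k] Ω) := by
  classical
  choose Ω _ _ h using fun s : Finset I => exists_common_finset k K s
  let J : Ideal (∀ s, Ω s) :=
    { carrier := {x | ∃ t : Finset I, ∀ s, t ⊆ s → x s = 0}
      add_mem' := by
        rintro x y ⟨t, ht⟩ ⟨t', ht'⟩
        refine ⟨t ∪ t', fun s hs => ?_⟩
        rw [Pi.add_apply, ht s (Finset.union_subset_left hs), ht' s (Finset.union_subset_right hs), add_zero]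
      zero_mem' := ⟨∅, fun _ _ => rfl⟩
      smul_mem' := by
        rintro c x ⟨t, ht⟩
        exact ⟨t, fun s hs => by rw [smul_eq_mul, Pi.mul_apply, ht s hs, mul_zero]⟩ }
  have hJ : ∀ {x : ∀ s, Ω s}, x ∈ J ↔ ∃ t : Finset I, ∀ s, t ⊆ s → x s = 0 := Iff.rfl
  have hne : Nontrivial ((∀ s, Ω s) ⧸ J) := by
    rw [Ideal.Quotient.nontrivial_iff]
    intro h1
    obtain ⟨t, ht⟩ := hJ.mp ((Ideal.eq_top_iff_one J).mp h1)
    exact one_ne_zero (ht t subset_rfl)
  refine ⟨(∀ s, Ω s) ⧸ J, inferInstance, hne, inferInstance, fun i => ?_⟩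
  let σ : K i → ∀ s, Ω s := fun x s => if hi : i ∈ s then (h s i hi).some x else 0
  have hσ : ∀ {x : K i} {s : Finset I} (hi : i ∈ s), σ x s = (h s i hi).some x := fun hi => dif_pos hi
  have key : ∀ {x y : ∀ s, Ω s}, (∀ s, i ∈ s → x s = y s) → Ideal.Quotient.mk J x = Ideal.Quotient.mk J y := by
    intro x y hxy
    rw [Ideal.Quotient.eq]
    refine hJ.mpr ⟨{i}, fun s hs => ?_⟩
    rw [Pi.sub_apply, hxy s (hs (Finset.mem_singleton_self i)), sub_self]
  refine ⟨AlgHom.ofLinearMap
    { toFun := fun x => Ideal.Quotient.mk J (σ x)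
      map_add' := fun x y => ?_
      map_smul' := fun c x => ?_ } ?_ fun x y => ?_⟩
  · rw [← map_add]
    refine key fun s hs => ?_
    rw [Pi.add_apply, hσ hs, hσ hs, hσ hs, map_add]
  · have : c • Ideal.Quotient.mk J (σ x) = Ideal.Quotient.mk J (c • σ x) := rfl
    rw [RingHom.id_apply, this]
    refine key fun s hs => ?_
    rw [Pi.smul_apply, hσ hs, hσ hs, map_smul]
  · change Ideal.Quotient.mk J (σ 1) = 1
    rw [← map_one (Ideal.Quotient.mk J)]
    refine key fun s hs => ?_
    rw [hσ hs, map_one, Pi.one_apply]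
  · change Ideal.Quotient.mk J (σ (x * y)) = Ideal.Quotient.mk J (σ x) * Ideal.Quotient.mk J (σ y)
    rw [← map_mul]
    refine key fun s hs => ?_
    rw [Pi.mul_apply, hσ hs, hσ hs, hσ hs, map_mul]

end K339.CommonExt
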