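import Groth.Agent.Flat2G.FibDimVanish
import Groth.Agent.CohqB.LocBaseRed
import Groth.Agent.Krr.H454.Bridge
import Groth.Agent.FormalA.PullbackQC

/-!
# Vanishing of higher direct images of quasi-coherent modules above the fibre dimension

No Noetherian hypotheses.

* `isZero_stalk`: `f` proper, `dim X_y ≤ d`: the stalk of `R^p f_* M` at `y` vanishes for `p > d`.
* `exists_affine_nhd`: there is an affine neighbourhood `V` of `y` such that all `R^p (f∣_V)_*` vanish for `p > d`.
-/

set_option autoImplicit false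
universe u

open CategoryTheory CategoryTheory.Limits AlgebraicGeometry Opposite TopologicalSpace

namespace K339.FibVanish

open Groth.Agent Groth.Agent.Flat2G

theorem isZero_stalk {X Y : Scheme.{u}} (f : X ⟶ Y) [IsProper f] (y : Y) (d : ℕ)
    (hd : topologicalKrullDim ↥(f.fiber y) ≤ d) (M : X.Modules) (hM : Coh.IsQCoh M) (p : ℕ) (hp : d < p) :
    Limits.IsZero (TopCat.Presheaf.stalk ((Coh.RpushAb f p).obj (Coh.toAb M)).obj y) := by
  have H := IsPullback.of_hasPullback f (Y.fromSpecStalk y)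
  refine CohqB.LocBaseRed.isZero_stalk_of_local f y M hM p _ _ H ?_
  let g : pullback f (Y.fromSpecStalk y) ⟶ Spec (Y.presheaf.stalk y) := pullback.snd f (Y.fromSpecStalk y)
  have hg : IsProper g := inferInstanceAs (IsProper (pullback.snd f (Y.fromSpecStalk y)))
  refine FibDimVanish.subsingleton_HH g d (fun s => ?_) _ (FormalA.PullbackQC.isQCoh_pullback _ _ hM) p hp
  rw [ProperDim.topologicalKrullDim_fiber_baseChange f g _ _ H s]
  have h1 : (Y.fromSpecStalk y) s ⤳ y := by
    have h2 : (Y.fromSpecStalk y) s ∈ Set.range (Y.fromSpecStalk y) := ⟨s, rfl⟩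
    rw [Scheme.range_fromSpecStalk] at h2
    exact h2
  exact h1.mem_open (ProperDim.dimLocus f d).isOpen hd

theorem exists_affine_nhd {X Y : Scheme.{u}} (f : X ⟶ Y) [IsProper f]
    (y : Y) (d : ℕ) (hd : topologicalKrullDim ↥(f.fiber y) ≤ d) :
    ∃ V : Y.Opens, y ∈ V ∧ IsAffineOpen V ∧ (∀ y ∈ V, topologicalKrullDim ↥(f.fiber y) ≤ d) ∧
      ∀ (M : (↑(f ⁻¹ᵁ V) : Scheme.{u}).Modules) (i : ℕ), Coh.IsQCoh M → d < i →
        Limits.IsZero ((Coh.RpushAb (f ∣_ V) i).obj (Coh.toAb M)) := by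
  obtain ⟨V, hV, hyV, hle⟩ := Y.isBasis_affineOpens.exists_subset_of_mem_open
    (show y ∈ (ProperDim.dimLocus f d : Set Y) from hd) (ProperDim.dimLocus f d).isOpen
  obtain ⟨V, hV, rfl⟩ := hV
  refine ⟨V, hyV, hV, fun y hy => hle hy, fun M i hM hi => ?_⟩
  have : IsAffine V := hV
  have : IsProper (f ∣_ V) := inferInstance
  rw [Krr.H454.Bridge.isZero_RpushAb_iff_of_isAffine (f ∣_ V) hM i]
  refine FibDimVanish.subsingleton_HH (f ∣_ V) d (fun s => ?_) _ hM i hi
  rw [ProperDim.topologicalKrullDim_fiber_baseChange f (f ∣_ V) _ _ (isPullback_morphismRestrict f V).flip s]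
  exact hle s.2

end K339.FibVanish
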