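import Groth.Agent.Lim.K339.ClosedLim
import Groth.Agent.S2078
import Groth.Agent.S2154

/-!
# Finite morphisms and finitely presented ones

* `exists_embedding`: a finite morphism `f : X ⟶ S` to a qcqs scheme is `j ≫ f₁` with `j` a closed immersion and
  `f₁` of finite presentation, and there is a finite type ideal `K₀ ≤ j.ker` whose closed subscheme is finite over
  `S`.
-/

set_option autoImplicit false

universe u

open CategoryTheory AlgebraicGeometry
open Groth.Agent.Smoothlim.ClosedFP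

namespace K339.FiniteClosed

theorem exists_embedding {X S : Scheme.{u}} (f : X ⟶ S) [IsFinite f] [CompactSpace S]
    [QuasiSeparatedSpace S] :
    ∃ (X₁ : Scheme.{u}) (f₁ : X₁ ⟶ S) (j : X ⟶ X₁), LocallyOfFinitePresentation f₁ ∧ CompactSpace X₁ ∧
      QuasiSeparatedSpace X₁ ∧ IsClosedImmersion j ∧ j ≫ f₁ = f ∧
      ∃ K₀ ≤ j.ker, BlowUp.IsFiniteTypeIdeal K₀ ∧ IsFinite (K₀.subschemeι ≫ f₁) := by
  have : CompactSpace X := QuasiCompact.compactSpace_of_compactSpace f
  have : QuasiSeparatedSpace X := quasiSeparatedSpace_of_quasiSeparated f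
  obtain ⟨X₁, f₁, j, h1, h2, h3, h4, h5⟩ := Groth.Agent.S2078.result f
  have hc : CompactSpace X₁ := QuasiCompact.compactSpace_of_compactSpace f₁
  have hq : QuasiSeparatedSpace X₁ := quasiSeparatedSpace_of_quasiSeparated f₁
  refine ⟨X₁, f₁, j, h1, hc, hq, h4, h5, ?_⟩
  have hne : Nonempty (Idx j.ker (⊥ : X₁.IdealSheafData)) := ⟨⟨⊥, le_rfl, bot_le, isFiniteTypeIdeal_bot⟩⟩
  have hfin : ∀ (a b : (Idx j.ker (⊥ : X₁.IdealSheafData))ᵒᵖ) (m : a ⟶ b),
      IsFinite ((subD f₁ j.ker ⊥).map m).left := fun a b m => by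
    have : IsClosedImmersion ((subD f₁ j.ker ⊥).map m).left := inferInstance
    infer_instance
  have hft : ∀ a, LocallyOfFiniteType ((subD f₁ j.ker ⊥).obj a).hom := fun a => inferInstance
  have hint : IsIntegralHom (subC f₁ j.ker ⊥).pt.hom := by
    have e := Over.w (K339.ClosedLim.closedIso f₁ j f h5 ⊥).hom
    rw [← e]
    have : IsIntegralHom (Over.mk f).hom := (inferInstance : IsIntegralHom f)
    infer_instance
  obtain ⟨i₀, hi₀⟩ := Groth.Agent.S2154.result S (subD f₁ j.ker ⊥) (subC f₁ j.ker ⊥)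
    (isLimitSubC f₁ j.ker ⊥ isFiniteTypeIdeal_bot bot_le)
  exact ⟨i₀.unop.1, i₀.unop.2.2.1, i₀.unop.2.2.2, hi₀ i₀ (𝟙 _)⟩

end K339.FiniteClosed
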