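import Mathlib.AlgebraicGeometry.AffineTransitionLimit

/-!
# Specializations in cofiltered limits of schemes, and density of preimages

* `exists_not_specializes`: if `x` does not specialize to `y` in the limit then the same holds at some stage.
* `exists_stage`: one stage for finitely many pairs, together with all further stages.
* `dense_preimage`: for `F : X ⟶ Z` dominant with `X` having finitely many irreducible components, whose generic points
  have images not specializing to each other, the preimage of a dense open is dense.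
-/

set_option autoImplicit false

universe u

open CategoryTheory AlgebraicGeometry Limits

namespace K339.LimTop

section lim

variable {I : Type u} [SmallCategory I] [IsCofiltered I] (D : I ⥤ Scheme.{u}) (c : Cone D) (hc : IsLimit c)
  [∀ {i j : I} (f : i ⟶ j), IsAffineHom (D.map f)]

include hc in
theorem exists_not_specializes (x y : c.pt) (h : ¬ x ⤳ y) : ∃ i, ¬ (c.π.app i x) ⤳ (c.π.app i y) := by
  by_contra! hcon
  apply h
  rw [specializes_iff_forall_open]
  intro U hU hyU
  obtain ⟨V, ⟨i, W, hW, rfl⟩, hyV, hVU⟩ :=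
    TopologicalSpace.Opens.isBasis_iff_nbhd.mp (isBasis_preimage_isAffineOpen D c hc)
      (U := ⟨U, hU⟩) hyU
  exact hVU ((hcon i).mem_open W.2 hyV)

omit [IsCofiltered I] [∀ {i j : I} (f : i ⟶ j), IsAffineHom (D.map f)] in
theorem not_specializes_of_hom {i j : I} (m : j ⟶ i) (x y : c.pt) (h : ¬ (c.π.app i x) ⤳ (c.π.app i y)) :
    ¬ (c.π.app j x) ⤳ (c.π.app j y) := by
  intro hs
  apply h
  have h1 := hs.map (D.map m).continuous
  rwa [← Scheme.Hom.comp_apply, ← Scheme.Hom.comp_apply, c.w] at h1

include hc in
theorem exists_stage {κ : Type*} [Finite κ] (x y : κ → c.pt) (h : ∀ a, ¬ x a ⤳ y a) :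
    ∃ i, ∀ a, ¬ (c.π.app i (x a)) ⤳ (c.π.app i (y a)) := by
  classical
  cases nonempty_fintype κ
  choose i hi using fun a => exists_not_specializes D c hc (x a) (y a) (h a)
  obtain ⟨k, hk⟩ := IsCofiltered.inf_objs_exists (Finset.univ.image i)
  refine ⟨k, fun a => ?_⟩
  obtain ⟨m⟩ := hk (X := i a) (by simp)
  exact not_specializes_of_hom D c m _ _ (hi a)

end lim

section dense

/-- The generic points of the irreducible components of a sober space. -/
theorem exists_generic {X : Type*} [TopologicalSpace X] [QuasiSober X] :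
    ∃ η : irreducibleComponents X → X, (∀ x, ∃ a, η a ⤳ x) ∧ ∀ a b, a ≠ b → ¬ η a ⤳ η b := by
  have hg : ∀ a : irreducibleComponents X, ∃ x, IsGenericPoint x a.1 := fun a =>
    QuasiSober.sober a.2.1 (isClosed_of_mem_irreducibleComponents _ a.2)
  choose η hη using hg
  refine ⟨η, fun x => ?_, fun a b hab hs => hab ?_⟩
  · refine ⟨⟨irreducibleComponent x, irreducibleComponent_mem_irreducibleComponents x⟩, ?_⟩
    exact (hη _).specializes mem_irreducibleComponent
  · have h1 : b.1 ⊆ a.1 := by
      rw [← (hη a).def, ← (hη b).def]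
      exact (specializes_iff_closure_subset).mp hs
    exact Subtype.ext (subset_antisymm (b.2.2 a.2.1 h1) h1)

variable {X Z : Type*} [TopologicalSpace X] [TopologicalSpace Z]

/-- If finitely many points `η a` of `X` have every point of `X` as a specialization and the `F (η a)` do not
specialize to each other, then the preimage of a dense open under the dominant map `F` is dense. -/
theorem dense_preimage {κ : Type*} [Finite κ] (η : κ → X) (hη : ∀ x, ∃ a, η a ⤳ x) {F : X → Z} (hF : Continuous F) (hd : DenseRange F)
    (hs : ∀ a b, a ≠ b → ¬ F (η a) ⤳ F (η b)) (U : Set Z) (hU : IsOpen U) (hUd : Dense U) :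
    Dense (F ⁻¹' U) := by
  have hcov : (⋃ a, closure {F (η a)}) = Set.univ := by
    have hcl : IsClosed (⋃ a, closure {F (η a)}) := isClosed_iUnion_of_finite fun _ => isClosed_closure
    rw [← hcl.closure_eq]
    refine (Dense.mono ?_ hd).closure_eq
    rintro _ ⟨x, rfl⟩
    obtain ⟨a, ha⟩ := hη x
    exact Set.mem_iUnion.mpr ⟨a, (ha.map hF).mem_closure⟩
  have key : ∀ a, F (η a) ∈ U := by
    intro a
    let A : Set Z := ⋃ b : {b // b ≠ a}, closure {F (η b)}
    have hA : IsClosed A := isClosed_iUnion_of_finite fun _ => isClosed_closure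
    have haA : F (η a) ∉ A := by
      intro h
      obtain ⟨⟨b, hb⟩, h⟩ := Set.mem_iUnion.mp h
      exact hs b a hb (specializes_iff_mem_closure.mpr h)
    obtain ⟨w, hwA, hwU⟩ := hUd.inter_open_nonempty Aᶜ hA.isOpen_compl ⟨_, haA⟩
    have hw : w ∈ ⋃ a, closure {F (η a)} := hcov ▸ Set.mem_univ w
    obtain ⟨b, hb⟩ := Set.mem_iUnion.mp hw
    by_cases hba : b = a
    · subst hba
      exact (specializes_iff_mem_closure.mpr hb).mem_open hU hwU
    · exact absurd (Set.mem_iUnion.mpr ⟨⟨b, hba⟩, hb⟩) hwA
  rw [dense_iff_inter_open]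
  rintro V hV ⟨x, hx⟩
  obtain ⟨a, ha⟩ := hη x
  exact ⟨η a, ha.mem_open hV hx, key a⟩

end dense

end K339.LimTop
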