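import Groth.Agent.Smoothlim.ClosedFP
import Mathlib.AlgebraicGeometry.AffineTransitionLimit

/-!
# Approximating the scheme theoretic images in a limit

Let `X = lim Z_i` over `S` (directed index set, affine transition maps, `Z_i` quasi-compact and quasi-separated). Then
`X` is also the limit of the finitely presented closed subschemes `V(K) ⊆ Z_i`, `K` contained in the kernel of
`X ⟶ Z_i`, restricted to the pairs `(i, K)` satisfying a property `Q` as long as `Q` holds for all large enough `K` for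
cofinally many `i`.
-/

set_option autoImplicit false

universe v u

open CategoryTheory AlgebraicGeometry Limits Opposite
open Groth.Agent.Smoothlim.ClosedFP

namespace K339.PairLim

/-- A cone over `E` is a limit cone if its composite with a monomorphism `E ⟶ F` is. -/
noncomputable def isLimitOfMono {J : Type*} [Category J] {C : Type*} [Category C] {E F : J ⥤ C} (α : E ⟶ F)
    [∀ j, Mono (α.app j)] (c : Cone E) (h : IsLimit ((Cone.postcompose α).obj c)) : IsLimit c where
  lift s := h.lift ((Cone.postcompose α).obj s)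
  fac s j := by
    rw [← cancel_mono (α.app j), Category.assoc]
    exact h.fac ((Cone.postcompose α).obj s) j
  uniq s m hm := h.hom_ext fun j => by
    refine Eq.trans ?_ (h.fac ((Cone.postcompose α).obj s) j).symm
    change m ≫ c.π.app j ≫ α.app j = s.π.app j ≫ α.app j
    rw [← Category.assoc, hm]

section stage

variable {Z Z₁ : Scheme.{u}} [CompactSpace Z] [QuasiSeparatedSpace Z]

theorem le_ker_of_fac {W Z₁ : Scheme.{u}} {K₁ : Z₁.IdealSheafData} (g : W ⟶ K₁.subscheme) (h : W ⟶ Z₁)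
    (e : g ≫ K₁.subschemeι = h) : K₁ ≤ h.ker := by
  rw [← e]
  refine le_trans ?_ (Scheme.Hom.le_ker_comp _ _)
  rw [Scheme.IdealSheafData.ker_subschemeι]

/-- If `V(L) ⟶ Z ⟶ Z₁` factors through the finitely presented closed subscheme `V(K₁)`, then so does `V(K) ⟶ Z ⟶ Z₁`
for some finite type ideal `K ≤ L`. -/
theorem exists_stage (L K₀ : Z.IdealSheafData) (hK₀ : BlowUp.IsFiniteTypeIdeal K₀) (h : K₀ ≤ L) (m : Z ⟶ Z₁)
    (K₁ : Z₁.IdealSheafData) (hK₁ : BlowUp.IsFiniteTypeIdeal K₁) (hle : K₁ ≤ (L.subschemeι ≫ m).ker) :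
    ∃ K : Z.IdealSheafData, K₀ ≤ K ∧ K ≤ L ∧ BlowUp.IsFiniteTypeIdeal K ∧ K₁ ≤ (K.subschemeι ≫ m).ker := by
  have hlfp := locallyOfFinitePresentation_subschemeι K₁ hK₁
  have : Nonempty (Idx L K₀) := ⟨⟨K₀, le_rfl, h, hK₀⟩⟩
  let D : (Idx L K₀)ᵒᵖ ⥤ Scheme.{u} := subD (𝟙 Z) L K₀ ⋙ Over.forget Z
  let c : Cone D := (Over.forget Z).mapCone (subC (𝟙 Z) L K₀)
  have hc : IsLimit c := isLimitOfPreserves (Over.forget Z) (isLimitSubC (𝟙 Z) L K₀ hK₀ h)
  let t : D ⟶ (Functor.const _).obj Z₁ :=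
    { app K := K.unop.1.subschemeι ≫ m
      naturality K K' a := by
        refine Eq.trans ?_ (Category.comp_id _).symm
        exact Scheme.IdealSheafData.inclusion_subschemeι_assoc _ _ }
  have h1 : ∀ {i j : (Idx L K₀)ᵒᵖ} (a : i ⟶ j), IsAffineHom (D.map a) := fun {i j} a => by
    have : IsClosedImmersion (D.map a) := isClosedImmersion_subD_map (𝟙 Z) L K₀ a
    infer_instance
  have h2 : ∀ i, CompactSpace (D.obj i) := fun i => compactSpace_subD (𝟙 Z) L K₀ i
  have h3 : ∀ i, QuasiSeparatedSpace (D.obj i) := fun i => quasiSeparatedSpace_subD (𝟙 Z) L K₀ i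
  let a : L.subscheme ⟶ K₁.subscheme := IsClosedImmersion.lift K₁.subschemeι (L.subschemeι ≫ m) (by
    rw [Scheme.IdealSheafData.ker_subschemeι]
    exact hle)
  have ha : a ≫ K₁.subschemeι = L.subschemeι ≫ m := IsClosedImmersion.lift_fac _ _ _
  obtain ⟨K, g, -, hg⟩ := Scheme.exists_π_app_comp_eq_of_locallyOfFinitePresentation D t K₁.subschemeι c hc a (by
    ext K
    have e : c.π.app K ≫ t.app K = L.subschemeι ≫ m :=
      Scheme.IdealSheafData.inclusion_subschemeι_assoc K.unop.2.2.1 m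
    exact e.trans ha.symm)
  exact ⟨K.unop.1, K.unop.2.1, K.unop.2.2.1, K.unop.2.2.2, le_ker_of_fac g _ hg⟩

end stage

section pairs

variable {S : Scheme.{u}} {I : Type u} [Preorder I] (D : Iᵒᵖ ⥤ Over S) (c : Cone D)

/-- The stages as schemes. -/
abbrev Zs (i : I) : Scheme.{u} := (D.obj (op i)).left

/-- The structure morphisms. -/
abbrev zs (i : I) : Zs D i ⟶ S := (D.obj (op i)).hom

variable {D} in
/-- The projections. -/
abbrev pr (i : I) : c.pt.left ⟶ Zs D i := (c.π.app (op i)).left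

/-- The transition morphisms. -/
abbrev tr {i j : I} (h : i ≤ j) : Zs D j ⟶ Zs D i := (D.map (homOfLE h).op).left

theorem tr_refl (i : I) : tr D (le_refl i) = 𝟙 _ := by
  have : D.map (homOfLE (le_refl i)).op = 𝟙 _ := D.map_id _
  rw [tr, this]
  rfl

theorem tr_trans {i j k : I} (h : i ≤ j) (h' : j ≤ k) : tr D h' ≫ tr D h = tr D (h.trans h') := by
  have : D.map (homOfLE (h.trans h')).op = D.map (homOfLE h').op ≫ D.map (homOfLE h).op :=
    D.map_comp (homOfLE h').op (homOfLE h).op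
  rw [tr, tr, tr, this]
  rfl

theorem tr_zs {i j : I} (h : i ≤ j) : tr D h ≫ zs D i = zs D j := Over.w (D.map (homOfLE h).op)

theorem pr_tr {i j : I} (h : i ≤ j) : pr c j ≫ tr D h = pr c i := congr(($(c.w (homOfLE h).op)).left)

/-- The pairs `(i, K)`. -/
structure Pair (Q : ∀ i : I, (Zs D i).IdealSheafData → Prop) : Type u where
  i : I
  K : (Zs D i).IdealSheafData
  le : K ≤ (pr c i).ker
  ft : BlowUp.IsFiniteTypeIdeal K
  q : Q i K

variable {D c} {Q : ∀ i : I, (Zs D i).IdealSheafData → Prop}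

/-- `(i, K) ≤ (j, K')` if `V(K') ⟶ Z_j ⟶ Z_i` factors through `V(K)`. -/
def Pair.Le (s t : Pair D c Q) : Prop := ∃ h : s.i ≤ t.i, s.K ≤ (t.K.subschemeι ≫ tr D h).ker

/-- The transition morphisms `V(K') ⟶ V(K)`. -/
noncomputable def Pair.map {s t : Pair D c Q} (h : Pair.Le s t) : t.K.subscheme ⟶ s.K.subscheme :=
  IsClosedImmersion.lift s.K.subschemeι (t.K.subschemeι ≫ tr D h.choose) (by
    rw [Scheme.IdealSheafData.ker_subschemeι]
    exact h.choose_spec)

theorem Pair.map_fac {s t : Pair D c Q} (h : Pair.Le s t) :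
    Pair.map h ≫ s.K.subschemeι = t.K.subschemeι ≫ tr D h.choose := IsClosedImmersion.lift_fac _ _ _

instance : Preorder (Pair D c Q) where
  le := Pair.Le
  le_refl s := ⟨le_rfl, by rw [tr_refl, Category.comp_id, Scheme.IdealSheafData.ker_subschemeι]⟩
  le_trans s t r h h' := by
    refine ⟨h.choose.trans h'.choose, ?_⟩
    refine le_ker_of_fac (Pair.map h' ≫ Pair.map h) _ ?_
    rw [Category.assoc, Pair.map_fac h, ← Category.assoc, Pair.map_fac h', Category.assoc, tr_trans]

theorem mono_i : Monotone (fun s : Pair D c Q => s.i) := fun _ _ h => h.choose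

variable (D c Q)

/-- The diagram of the closed subschemes `V(K)`. -/
noncomputable def pD : (Pair D c Q)ᵒᵖ ⥤ Over S where
  obj s := Over.mk (s.unop.K.subschemeι ≫ zs D s.unop.i)
  map {s t} m := Over.homMk (Pair.map (leOfHom m.unop : t.unop ≤ s.unop)) (by
    change Pair.map _ ≫ _ ≫ _ = _ ≫ _
    rw [← Category.assoc, Pair.map_fac, Category.assoc, tr_zs])
  map_id s := by
    ext1
    change Pair.map (le_refl s.unop) = 𝟙 s.unop.K.subscheme
    rw [← cancel_mono s.unop.K.subschemeι, Pair.map_fac, Category.id_comp]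
    exact (congrArg (s.unop.K.subschemeι ≫ ·) (tr_refl D s.unop.i)).trans (Category.comp_id _)
  map_comp {s t r} m m' := by
    ext1
    have h1 : t.unop ≤ s.unop := leOfHom m.unop
    have h2 : r.unop ≤ t.unop := leOfHom m'.unop
    change Pair.map (h2.trans h1) = Pair.map h1 ≫ Pair.map h2
    rw [← cancel_mono r.unop.K.subschemeι, Pair.map_fac, Category.assoc, Pair.map_fac, ← Category.assoc,
      Pair.map_fac, Category.assoc, tr_trans]

/-- The inclusions `V(K) ⟶ Z_i`. -/
noncomputable def pα : pD D c Q ⟶ (mono_i (D := D) (c := c) (Q := Q)).functor.op ⋙ D where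
  app s := Over.homMk s.unop.K.subschemeι rfl
  naturality s t m := by
    ext1
    exact Pair.map_fac (leOfHom m.unop : t.unop ≤ s.unop)

instance (s : (Pair D c Q)ᵒᵖ) : Mono ((pα D c Q).app s) := by
  have h : Mono ((pα D c Q).app s).left := (inferInstance : Mono s.unop.K.subschemeι)
  exact Over.mono_of_mono_left _

/-- The legs `X ⟶ V(K)`. -/
noncomputable def pleg (s : Pair D c Q) : c.pt.left ⟶ s.K.subscheme :=
  IsClosedImmersion.lift s.K.subschemeι (pr c s.i) (by
    rw [Scheme.IdealSheafData.ker_subschemeι]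
    exact s.le)

theorem pleg_fac (s : Pair D c Q) : pleg D c Q s ≫ s.K.subschemeι = pr c s.i := IsClosedImmersion.lift_fac _ _ _

/-- The cone with vertex `X`. -/
noncomputable def pC : Cone (pD D c Q) where
  pt := c.pt
  π :=
    { app s := Over.homMk (pleg D c Q s.unop) (by
        change pleg D c Q s.unop ≫ s.unop.K.subschemeι ≫ zs D s.unop.i = _
        rw [← Category.assoc, pleg_fac]
        exact Over.w (c.π.app (op s.unop.i)))
      naturality s t m := by
        ext1
        have h1 : t.unop ≤ s.unop := leOfHom m.unop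
        change 𝟙 _ ≫ pleg D c Q t.unop = pleg D c Q s.unop ≫ Pair.map h1
        rw [Category.id_comp, ← cancel_mono t.unop.K.subschemeι, Category.assoc, Pair.map_fac, pleg_fac,
          ← Category.assoc, pleg_fac, pr_tr] }

variable [IsDirected I (fun a b => a ≤ b)] [Nonempty I]
  [∀ i, CompactSpace (D.obj i).left] [∀ i, QuasiSeparatedSpace (D.obj i).left]

/-- Cofinally many stages have a finite type ideal above which `Q` holds. -/
def Good : Prop := ∀ i : I, ∃ j, i ≤ j ∧ ∃ K₀ : (Zs D j).IdealSheafData, K₀ ≤ (pr c j).ker ∧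
  BlowUp.IsFiniteTypeIdeal K₀ ∧ ∀ K, K₀ ≤ K → K ≤ (pr c j).ker → BlowUp.IsFiniteTypeIdeal K → Q j K

variable {D c Q} (hQ : Good D c Q)

include hQ

omit [IsDirected I (fun a b => a ≤ b)] [∀ i, CompactSpace (D.obj i).left]
  [∀ i, QuasiSeparatedSpace (D.obj i).left] in
theorem nonempty_pair : Nonempty (Pair D c Q) := by
  obtain ⟨j, -, K₀, h1, h2, h3⟩ := hQ (Classical.arbitrary I)
  exact ⟨⟨j, K₀, h1, h2, h3 K₀ le_rfl h1 h2⟩⟩

omit [Nonempty I] in
theorem isDirected_pair : IsDirected (Pair D c Q) (fun a b => a ≤ b) := by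
  refine ⟨fun s t => ?_⟩
  obtain ⟨j₀, hs, ht⟩ := exists_ge_ge s.i t.i
  obtain ⟨j, hj, K₀, h1, h2, h3⟩ := hQ j₀
  have : CompactSpace (Zs D j) := inferInstanceAs (CompactSpace (D.obj (op j)).left)
  have : QuasiSeparatedSpace (Zs D j) := inferInstanceAs (QuasiSeparatedSpace (D.obj (op j)).left)
  have key : ∀ (r : Pair D c Q) (hr : r.i ≤ j), r.K ≤ ((pr c j).ker.subschemeι ≫ tr D hr).ker := by
    intro r hr
    refine Scheme.IdealSheafData.le_map_iff_comap_le.mpr ?_
    have e : pr c j = pullback.lift (pr c j) (pleg D c Q r) ((pr_tr D c hr).trans (pleg_fac D c Q r).symm) ≫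
      pullback.fst (tr D hr) r.K.subschemeι := (pullback.lift_fst _ _ _).symm
    rw [e]
    exact Scheme.Hom.le_ker_comp _ _
  obtain ⟨K₁, h4, h5, h6, h7⟩ := exists_stage (pr c j).ker K₀ h2 h1 (tr D (hs.trans hj)) s.K s.ft (key s _)
  obtain ⟨K₂, h8, h9, h10, h11⟩ := exists_stage (pr c j).ker K₁ h6 h5 (tr D (ht.trans hj)) t.K t.ft (key t _)
  refine ⟨⟨j, K₂, h9, h10, h3 K₂ (h4.trans h8) h9 h10⟩, ⟨hs.trans hj, h7.trans ?_⟩, ⟨ht.trans hj, h11⟩⟩
  rw [← Scheme.IdealSheafData.inclusion_subschemeι h8, Category.assoc]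
  exact Scheme.Hom.le_ker_comp _ _

theorem final_i : (mono_i (D := D) (c := c) (Q := Q)).functor.Final := by
  have := isDirected_pair hQ
  rw [Monotone.final_functor_iff]
  intro i
  obtain ⟨j, hj, K₀, h1, h2, h3⟩ := hQ i
  exact ⟨⟨j, K₀, h1, h2, h3 K₀ le_rfl h1 h2⟩, hj⟩

omit hQ [IsDirected I (fun a b => a ≤ b)] [Nonempty I] [∀ i, CompactSpace (D.obj i).left]
  [∀ i, QuasiSeparatedSpace (D.obj i).left] in
variable (D c Q) in
theorem pC_pα (s : (Pair D c Q)ᵒᵖ) : (pC D c Q).π.app s ≫ (pα D c Q).app s = c.π.app (op s.unop.i) := by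
  ext1
  exact pleg_fac D c Q s.unop

/-- `X` is the limit of the closed subschemes `V(K)`. -/
theorem nonempty_isLimit_pC (hc : IsLimit c) : Nonempty (IsLimit (pC D c Q)) := by
  have := final_i hQ
  refine ⟨isLimitOfMono (pα D c Q) (pC D c Q) ?_⟩
  refine IsLimit.ofIsoLimit ((Functor.Initial.isLimitWhiskerEquiv
    (mono_i (D := D) (c := c) (Q := Q)).functor.op c).symm hc) (Cone.ext (Iso.refl _) fun s => ?_)
  refine Eq.trans ?_ (Category.id_comp _).symm
  exact (pC_pα D c Q s).symm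

end pairs

end K339.PairLim
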