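import Mathlib.AlgebraicGeometry.Stalk
import Mathlib.CategoryTheory.Filtered.Final
import Mathlib.CategoryTheory.Limits.Constructions.Over.Connected
import Mathlib.CategoryTheory.Limits.Opposites
import Mathlib.AlgebraicGeometry.AffineTransitionLimit

/-!
# The spectrum of a local ring as the limit of the affine neighbourhoods

* `J x`: the affine open neighbourhoods of `x`.
* `D x z`, `C x z`, `isLimitC`: for `z : Z ⟶ T`, the affine neighbourhoods of `x` over `T` have limit
  `Spec O_{Z, x}` in schemes over `T`.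
-/

set_option autoImplicit false

universe u

open CategoryTheory AlgebraicGeometry Limits Opposite TopologicalSpace

namespace K339.StalkLim

variable {Z T : Scheme.{u}} (x : Z) (z : Z ⟶ T)

/-- The affine open neighbourhoods of a point. -/
abbrev J : Type u := {V : Z.affineOpens // x ∈ V.1}

instance : Nonempty (J x) := by
  obtain ⟨_, ⟨V, hV : IsAffineOpen V, rfl⟩, hxV, -⟩ :=
    Z.isBasis_affineOpens.exists_subset_of_mem_open (Set.mem_univ x) isOpen_univ
  exact ⟨⟨⟨V, hV⟩, hxV⟩⟩

instance : IsCodirectedOrder (J x) where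
  directed V W := by
    obtain ⟨_, ⟨U, hU : IsAffineOpen U, rfl⟩, hxU, hUW⟩ :=
      Z.isBasis_affineOpens.exists_subset_of_mem_open (a := x) (u := (V.1.1 ⊓ W.1.1 : Z.Opens))
        ⟨V.2, W.2⟩ (V.1.1 ⊓ W.1.1).2
    exact ⟨⟨⟨U, hU⟩, hxU⟩, fun y hy => (hUW hy).1, fun y hy => (hUW hy).2⟩

/-- The functor to all neighbourhoods. -/
def G : J x ⥤ OpenNhds (X := Z.toTopCat) x :=
  Monotone.functor (f := fun V => ⟨V.1.1, V.2⟩) (fun _ _ h => h)

instance : (G x).Initial := by
  refine Functor.initial_of_exists_of_isCofiltered _ (fun U => ?_) fun {_ c} _ _ => ⟨c, 𝟙 _, Subsingleton.elim _ _⟩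
  obtain ⟨_, ⟨V, hV : IsAffineOpen V, rfl⟩, hxV, hVU⟩ :=
    Z.isBasis_affineOpens.exists_subset_of_mem_open U.2 U.1.2
  exact ⟨⟨⟨V, hV⟩, hxV⟩, ⟨homOfLE hVU⟩⟩

/-- The rings of sections over the affine neighbourhoods. -/
noncomputable def F : (J x)ᵒᵖ ⥤ CommRingCat.{u} := (G x).op ⋙ (OpenNhds.inclusion x).op ⋙ Z.presheaf

/-- The stalk as a cocone. -/
noncomputable def coc : Cocone (F x) :=
  (colimit.cocone ((OpenNhds.inclusion x).op ⋙ Z.presheaf)).whisker (G x).op

/-- The stalk is the colimit. -/
noncomputable def isColimitCoc : IsColimit (coc x) :=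
  (Functor.Final.isColimitWhiskerEquiv (G x).op _).symm (colimit.isColimit _)

/-- The inclusion of an affine neighbourhood. -/
noncomputable def inc (V : J x) : Spec Γ(Z, V.1.1) ⟶ Z := (show IsAffineOpen V.1.1 from V.1.2).fromSpec

/-- The transition morphisms. -/
noncomputable def tr {V W : J x} (h : V ≤ W) : Spec Γ(Z, V.1.1) ⟶ Spec Γ(Z, W.1.1) :=
  Spec.map (Z.presheaf.map (homOfLE (show V.1.1 ≤ W.1.1 from h)).op)

variable {x} in
@[reassoc]
theorem tr_inc {V W : J x} (h : V ≤ W) : tr x h ≫ inc x W = inc x V :=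
  IsAffineOpen.map_fromSpec _ _ _

/-- The map from the spectrum of the local ring. -/
noncomputable def st (V : J x) : Spec (Z.presheaf.stalk x) ⟶ Spec Γ(Z, V.1.1) :=
  Spec.map (Z.presheaf.germ V.1.1 x V.2)

variable {x} in
@[reassoc]
theorem st_inc (V : J x) : st x V ≫ inc x V = Z.fromSpecStalk x :=
  (show IsAffineOpen V.1.1 from V.1.2).fromSpecStalk_eq_fromSpecStalk V.2

variable {x} in
theorem st_tr {V W : J x} (h : V ≤ W) : st x V ≫ tr x h = st x W := by
  rw [st, tr, ← Spec.map_comp, Z.presheaf.germ_res]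
  rfl

/-- The diagram of the affine neighbourhoods over `T`. -/
noncomputable def D : J x ⥤ Over T where
  obj V := Over.mk (inc x V ≫ z)
  map {V W} m := Over.homMk (tr x (leOfHom m)) (tr_inc_assoc _ _)
  map_id V := by
    ext1
    change Spec.map (Z.presheaf.map (𝟙 _)) = 𝟙 _
    rw [Z.presheaf.map_id, Spec.map_id]
  map_comp {V W U} m m' := by
    ext1
    change Spec.map (Z.presheaf.map _) = Spec.map (Z.presheaf.map _) ≫ Spec.map (Z.presheaf.map _)
    rw [← Spec.map_comp, ← Z.presheaf.map_comp]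
    rfl

/-- The cone with vertex `Spec O_{Z, x}`. -/
noncomputable def C : Cone (D x z) where
  pt := Over.mk (Z.fromSpecStalk x ≫ z)
  π :=
    { app V := Over.homMk (st x V) (st_inc_assoc V z)
      naturality V W m := by
        ext1
        change 𝟙 _ ≫ st x W = st x V ≫ tr x (leOfHom m)
        rw [Category.id_comp, st_tr] }

attribute [local instance] IsCofiltered.isConnected

/-- `Spec O_{Z, x}` is the limit of the affine neighbourhoods. -/
noncomputable def isLimitC : IsLimit (C x z) := by
  have h1 : IsLimit (coneRightOpOfCocone (coc x)) := isLimitConeRightOpOfCocone _ (isColimitCoc x)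
  have h2 : IsLimit (Scheme.Spec.mapCone (coneRightOpOfCocone (coc x))) := isLimitOfPreserves Scheme.Spec h1
  have h3 : IsLimit ((Over.forget T).mapCone (C x z)) := h2
  exact isLimitOfReflects (Over.forget T) h3

end K339.StalkLim
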