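import Groth.Agent.Flat2F.H1Fin
import Groth.Agent.UnramB.TriDual
import Groth.Agent.CohqB.HPush
import Groth.Agent.CohqB.RpushFin
import Groth.Agent.CohqB.FiniteType2
import Groth.Agent.CohqB.LocalQC
import Groth.Agent.FormalB.ModPow
import Groth.Agent.FormalB.ModPowAff2

/-!
# The top-degree cohomology of a finite type quasi-coherent module on a proper scheme over an
arbitrary ring is finite
-/

set_option autoImplicit false
universe u

open CategoryTheory CategoryTheory.Limits AlgebraicGeometry Opposite TopologicalSpace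

namespace K339.TopFin

open Groth.Agent.CohqB HSeqMod

section Alg

/-- Generation of a `B`-module by a set stable under two rings generating `B`. -/
theorem mem_span_of_closure {R B C M : Type*} [CommRing R] [CommRing B] [CommRing C]
    [AddCommGroup M] [Module B M] (φ : R →+* B) (ψ : C →+* B)
    (h : ∀ b : B, b ∈ Subring.closure (Set.range φ ∪ Set.range ψ)) (N : AddSubgroup M)
    (h1 : ∀ r, ∀ m ∈ N, φ r • m ∈ N) (h2 : ∀ c, ∀ m ∈ N, ψ c • m ∈ N) (b : B) (m : M) (hm : m ∈ N) :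
    b • m ∈ N := by
  revert m
  induction h b using Subring.closure_induction with
  | mem x hx =>
    rcases hx with ⟨r, rfl⟩ | ⟨c, rfl⟩
    · exact h1 r
    · exact h2 c
  | zero => intro m _; rw [zero_smul]; exact N.zero_mem
  | one => intro m hm; rw [one_smul]; exact hm
  | add x y _ _ hx hy => intro m hm; rw [add_smul]; exact N.add_mem (hx m hm) (hy m hm)
  | neg x _ hx => intro m hm; rw [neg_smul]; exact N.neg_mem (hx m hm)
  | mul x y _ _ hx hy => intro m hm; rw [mul_smul]; exact hx _ (hy m hm)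

end Alg

section Top

variable {X : Scheme.{u}} {n : ℕ}

theorem hmap_surjective_of_epi (h : ∀ F : X.Modules, Coh.IsQCoh F → ∀ x : Coh.HH X F (n + 1), x = 0)
    {F G : X.Modules} (e : F ⟶ G) [Epi e]
    (hF : Coh.IsQCoh F) (hG : Coh.IsQCoh G) : Function.Surjective (hmap e n) := by
  intro x
  obtain ⟨y, hy⟩ := exact₃ (Groth.Agent.Flat2F.H1Core.shortExact_kernel e) n x
    (h _ (Groth.Agent.PerfA.QCohSerre.isQCoh_kernel e hF hG) _)
  exact ⟨y, hy⟩

theorem exists_sum (h : ∀ F : X.Modules, Coh.IsQCoh F → ∀ x : Coh.HH X F (n + 1), x = 0)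
    [CompactSpace X] [QuasiSeparatedSpace X] {ι : Type u}
    {F : ι → X.Modules} (hF : ∀ i, Coh.IsQCoh (F i)) {G : X.Modules} (hG : Coh.IsQCoh G)
    (e : ∀ i, F i ⟶ G) (he : Epi (Sigma.desc e)) (x : Coh.HH X G n) :
    ∃ (s : Finset ι) (y : ∀ i, Coh.HH X (F i) n), x = ∑ i ∈ s, hmap (e i) n (y i) := by
  obtain ⟨z, rfl⟩ := hmap_surjective_of_epi h (Sigma.desc e)
    (Groth.Agent.Flat2F.H1Core.isQCoh_coproduct F hF) hG x
  obtain ⟨s, y, rfl⟩ := Groth.Agent.CohqA.DirectSum.exists_finset_sum F n z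
  refine ⟨s, y, ?_⟩
  rw [map_sum]
  refine Finset.sum_congr rfl fun i _ => ?_
  have h1 := hmap_comp_apply (Sigma.ι F i) (Sigma.desc e) n (y i)
  rw [Sigma.ι_desc] at h1
  exact h1.symm

end Top

section Gen

variable {X X₀ P Z Z' : Scheme.{u}}

/-- The functions on `g⁻¹ W` are generated by those of `W` and those of `Z'`. -/
theorem mem_closure (i : X ⟶ P) [IsClosedImmersion i] {p : P ⟶ X₀} {f' : P ⟶ Z'} {φ : X₀ ⟶ Z}
    {q : Z' ⟶ Z} (h : IsPullback p f' φ q) [IsAffine Z] [IsAffine Z'] {W : X₀.Opens}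
    (hW : IsAffineOpen W) (b : Γ(X, (i ≫ p) ⁻¹ᵁ W)) :
    b ∈ Subring.closure (Set.range ((i ≫ p).app W).hom ∪
      Set.range ((i ≫ f').appLE ⊤ ((i ≫ p) ⁻¹ᵁ W) le_top).hom) := by
  have hq : IsAffineHom q := inferInstance
  have hpo := Groth.Agent.Flat2C.Thick.isPushout_appLE h (isAffineOpen_top Z) hW (by simp)
  have hpa : IsAffineHom p := MorphismProperty.of_isPullback h.flip hq
  have hs : Function.Surjective (i.app (p ⁻¹ᵁ W)) := i.app_surjective _ (hW.preimage p)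
  obtain ⟨b, rfl⟩ := hs b
  have hb := Groth.Agent.Flat2G.StratField.mem_closure_of_isPushout hpo b
  refine Subring.closure_induction
    (p := fun b _ => (i.app (p ⁻¹ᵁ W)).hom b ∈ Subring.closure
      (Set.range ((i ≫ p).app W).hom ∪ Set.range ((i ≫ f').appLE ⊤ ((i ≫ p) ⁻¹ᵁ W) le_top).hom))
    ?_ ?_ ?_ ?_ ?_ ?_ hb
  · rintro _ (⟨r, rfl⟩ | ⟨c, rfl⟩)
    · refine Subring.subset_closure (Or.inl ⟨r, ?_⟩)
      rw [Scheme.Hom.comp_app]
      rfl
    · refine Subring.subset_closure (Or.inr ⟨c, ?_⟩)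
      rw [← RingHom.comp_apply, ← CommRingCat.hom_comp, ← Scheme.Hom.appLE_eq_app,
        Scheme.Hom.appLE_comp_appLE]
      rfl
  · rw [map_zero]; exact Subring.zero_mem _
  · rw [_root_.map_one]; exact Subring.one_mem _
  · intro x y _ _ hx hy
    rw [map_add]; exact Subring.add_mem _ hx hy
  · intro x _ hx
    rw [map_neg]; exact Subring.neg_mem _ hx
  · intro x y _ _ hx hy
    rw [map_mul]; exact Subring.mul_mem _ hx hy

/-- Multiplication by a function of `Z'` on `g_* M`. -/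
noncomputable def mulS (g : X ⟶ X₀) (t : X ⟶ Z') (M : X.Modules) (c : Γ(Z', ⊤)) :
    (Scheme.Modules.pushforward g).obj M ⟶ (Scheme.Modules.pushforward g).obj M :=
  (Scheme.Modules.pushforward g).map (Formal.smulModΓ M (show Coh.Γtop X from t.appTop c))

theorem mulS_app (g : X ⟶ X₀) (t : X ⟶ Z') (M : X.Modules) (c : Γ(Z', ⊤)) (W : X₀.Opens)
    (m : Γ(M, g ⁻¹ᵁ W)) :
    (mulS g t M c).app W m = (t.appLE ⊤ (g ⁻¹ᵁ W) le_top c : Γ(X, g ⁻¹ᵁ W)) • m := by
  have h1 : (mulS g t M c).app W m =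
      (X.presheaf.map (homOfLE (le_top (a := g ⁻¹ᵁ W))).op (t.appTop c) : Γ(X, g ⁻¹ᵁ W)) • m := rfl
  rw [h1]
  rfl

/-- If `E ⟶ g_* M` hits generators of `M` over the members of an affine cover then
`⨁_c E ⟶ g_* M` is an epimorphism. -/
theorem epi_desc (i : X ⟶ P) [IsClosedImmersion i] {p : P ⟶ X₀} {f' : P ⟶ Z'} {φ : X₀ ⟶ Z}
    {q : Z' ⟶ Z} (h : IsPullback p f' φ q) [IsAffine Z] [IsAffine Z'] {M : X.Modules}
    (hM : Coh.IsQCoh M) {E : X₀.Modules} (ε : E ⟶ (Scheme.Modules.pushforward (i ≫ p)).obj M)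
    (hε : ∀ x : X₀, ∃ W : X₀.Opens, x ∈ W ∧ IsAffineOpen W ∧
      Submodule.span Γ(X, (i ≫ p) ⁻¹ᵁ W) {s : Γ(M, (i ≫ p) ⁻¹ᵁ W) | ∃ z : Γ(E, W), ε.app W z = s} = ⊤) :
    Epi (Sigma.desc fun c : Γ(Z', ⊤) => ε ≫ mulS (i ≫ p) (i ≫ f') M c) := by
  have hq : IsAffineHom q := inferInstance
  have hpa : IsAffineHom p := MorphismProperty.of_isPullback h.flip hq
  have hG : Coh.IsQCoh ((Scheme.Modules.pushforward (i ≫ p)).obj M) :=
    Groth.Agent.Ega1.QcqsPush.isQCoh_pushforward (i ≫ p) M hM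
  refine Groth.Agent.FormalB.ModPowAff2.epi_of_affine_cover hG _ fun x => ?_
  obtain ⟨W, hxW, hW, hs⟩ := hε x
  refine ⟨W, hxW, hW, ?_⟩
  let Ψ := Sigma.desc fun c : Γ(Z', ⊤) => ε ≫ mulS (i ≫ p) (i ≫ f') M c
  let N : AddSubgroup Γ(M, (i ≫ p) ⁻¹ᵁ W) :=
    AddSubgroup.closure {s | ∃ (c : Γ(Z', ⊤)) (z : Γ(E, W)),
      ((i ≫ f').appLE ⊤ ((i ≫ p) ⁻¹ᵁ W) le_top c : Γ(X, (i ≫ p) ⁻¹ᵁ W)) • (show Γ(M, (i ≫ p) ⁻¹ᵁ W) from ε.app W z) = s}
  have hN1 : ∀ (r : Γ(X₀, W)), ∀ m ∈ N, ((i ≫ p).app W).hom r • m ∈ N := by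
    intro r m hm
    induction hm using AddSubgroup.closure_induction with
    | mem x hx =>
      obtain ⟨c, z, rfl⟩ := hx
      refine AddSubgroup.subset_closure ⟨c, r • z, ?_⟩
      rw [smul_comm]
      refine congrArg _ ?_
      exact Scheme.Modules.Hom.app_smul ε r z
    | zero => rw [smul_zero]; exact N.zero_mem
    | add x y _ _ hx hy => rw [smul_add]; exact N.add_mem hx hy
    | neg x _ hx => rw [smul_neg]; exact N.neg_mem hx
  have hN2 : ∀ (c : Γ(Z', ⊤)), ∀ m ∈ N,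
      ((i ≫ f').appLE ⊤ ((i ≫ p) ⁻¹ᵁ W) le_top).hom c • m ∈ N := by
    intro c m hm
    induction hm using AddSubgroup.closure_induction with
    | mem x hx =>
      obtain ⟨c', z, rfl⟩ := hx
      refine AddSubgroup.subset_closure ⟨c * c', z, ?_⟩
      rw [smul_smul, map_mul]
    | zero => rw [smul_zero]; exact N.zero_mem
    | add x y _ _ hx hy => rw [smul_add]; exact N.add_mem hx hy
    | neg x _ hx => rw [smul_neg]; exact N.neg_mem hx
  have hN3 : ∀ (b : Γ(X, (i ≫ p) ⁻¹ᵁ W)), ∀ m ∈ N, b • m ∈ N := fun b m hm =>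
    mem_span_of_closure _ _ (mem_closure i h hW) N hN1 hN2 b m hm
  have hN4 : ∀ z : Γ(E, W), (show Γ(M, (i ≫ p) ⁻¹ᵁ W) from ε.app W z) ∈ N := by
    intro z
    refine AddSubgroup.subset_closure ⟨1, z, ?_⟩
    rw [map_one, one_smul]
  have hN5 : ∀ m, m ∈ N := by
    intro m
    have hm : m ∈ (⊤ : Submodule Γ(X, (i ≫ p) ⁻¹ᵁ W) Γ(M, (i ≫ p) ⁻¹ᵁ W)) := trivial
    rw [← hs] at hm
    induction hm using Submodule.span_induction with
    | mem x hx => obtain ⟨z, rfl⟩ := hx; exact hN4 z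
    | zero => exact N.zero_mem
    | add x y _ _ hx hy => exact N.add_mem hx hy
    | smul b x _ hx => exact hN3 b x hx
  intro m
  have hm := hN5 m
  change ∃ z, Ψ.app W z = m
  induction hm using AddSubgroup.closure_induction with
  | mem x hx =>
    obtain ⟨c, z, rfl⟩ := hx
    refine ⟨(Sigma.ι (fun _ : Γ(Z', ⊤) => E) c).app W z, ?_⟩
    have h2 : (Sigma.ι (fun _ : Γ(Z', ⊤) => E) c ≫ Ψ).app W z =
        (ε ≫ mulS (i ≫ p) (i ≫ f') M c).app W z := by
      rw [Sigma.ι_desc]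
    refine h2.trans ?_
    exact mulS_app (i ≫ p) (i ≫ f') M c W (ε.app W z)
  | zero => exact ⟨0, map_zero _⟩
  | add x y _ _ hx hy =>
    obtain ⟨a, rfl⟩ := hx
    obtain ⟨b, rfl⟩ := hy
    exact ⟨a + b, map_add _ _ _⟩
  | neg x _ hx =>
    obtain ⟨a, rfl⟩ := hx
    exact ⟨-a, map_neg _ _⟩

end Gen

section Push

open Groth.Agent.CohqB.PushTop Groth.Agent.CohqB.HPush

variable {X Y : Scheme.{u}} (g : X ⟶ Y)

/-- The comparison map `H^n(Y, g_* M) → H^n(X, M)`. -/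
noncomputable def cmp (M : X.Modules) (n : ℕ) :
    Coh.HH Y ((Scheme.Modules.pushforward g).obj M) n →+ Coh.HH X M n :=
  pushH g.base (Coh.toAb M) n

theorem cmp_bijective [IsAffineHom g] {M : X.Modules} (hM : Coh.IsQCoh M) (n : ℕ) :
    Function.Bijective (cmp g M n) :=
  pushH_bijective (X := X.toTopCat) (Y := Y.toTopCat) g.base (AffB Y) isBasis_affB (Coh.toAb M)
    (q_of_affine g hM) n

theorem cmp_hmap {M N : X.Modules} (φ : M ⟶ N) (n : ℕ)
    (x : Coh.HH Y ((Scheme.Modules.pushforward g).obj M) n) :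
    cmp g N n (hmap ((Scheme.Modules.pushforward g).map φ) n x) = hmap φ n (cmp g M n x) :=
  pushH_map g.base ((SheafOfModules.toSheaf X.ringCatSheaf).map φ) n x

theorem smulModΓ_push (M : X.Modules) (r : Coh.Γtop Y) :
    Formal.smulModΓ ((Scheme.Modules.pushforward g).obj M) r =
      (Scheme.Modules.pushforward g).map
        (Formal.smulModΓ M (show Coh.Γtop X from g.appTop (show Γ(Y, ⊤) from r))) := by
  ext V m
  exact congrArg (fun t : Γ(X, g ⁻¹ᵁ V) => t • (show Γ(M, g ⁻¹ᵁ V) from m))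
    (appTop_resTop g (op V) r)

theorem cmp_hmap_smul {M : X.Modules} {E : Y.Modules} (ε : E ⟶ (Scheme.Modules.pushforward g).obj M)
    (n : ℕ) (r : Coh.Γtop Y) (x : Coh.HH Y E n) :
    cmp g M n (hmap ε n (r • x)) =
      (show Coh.Γtop X from g.appTop (show Γ(Y, ⊤) from r)) • cmp g M n (hmap ε n x) := by
  rw [← hmap_smulModΓ, ← hmap_comp_apply, Groth.Agent.FormalB.ModPow.smulModΓ_naturality,
    hmap_comp_apply, smulModΓ_push, cmp_hmap, hmap_smulModΓ]

end Push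

/-- **Finiteness in the top degree over an arbitrary ring.** -/
theorem finite_top (A : Type u) [CommRing A] (X : Scheme.{u}) [X.Over (Spec (CommRingCat.of A))]
    [IsProper (X ↘ Spec (CommRingCat.of A))] (d : ℕ)
    (hd : ∀ y, topologicalKrullDim ↥((X ↘ Spec (CommRingCat.of A)).fiber y) ≤ d)
    (M : X.Modules) (hM : Coh.IsCoh M) : Module.Finite A (Coh.HH X M d) := by
  obtain ⟨X₀, S₀, P, φ, q, p, f', i, hi, hif, hpb, hφ, -, hS₀, hN, hd₀⟩ :=
    Groth.Agent.Flat2G.ProperApprox.exists_closed_approx (X ↘ Spec (CommRingCat.of A)) d hd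
  have hv : ∀ F : X₀.Modules, Coh.IsQCoh F → ∀ x : Coh.HH X₀ F (d + 1), x = 0 := by
    intro F hF x
    have := Groth.Agent.Flat2G.FibDimVanish.subsingleton_HH φ d hd₀ F hF (d + 1) (Nat.lt_succ_self d)
    exact Subsingleton.elim _ _
  have hc : CompactSpace X₀ := QuasiCompact.compactSpace_of_compactSpace φ
  have hqs : QuasiSeparatedSpace X₀ := quasiSeparatedSpace_of_quasiSeparated φ
  have hln : IsLocallyNoetherian X₀ := LocallyOfFiniteType.isLocallyNoetherian φ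
  have hq : IsAffineHom q := inferInstance
  have hpa : IsAffineHom p := MorphismProperty.of_isPullback hpb.flip hq
  have hga : IsAffineHom (i ≫ p) := inferInstance
  have hG : Coh.IsQCoh ((Scheme.Modules.pushforward (i ≫ p)).obj M) :=
    Groth.Agent.Ega1.QcqsPush.isQCoh_pushforward (i ≫ p) M hM.1
  have hcpt : IsCompact (Set.univ : Set X₀) := isCompact_univ
  obtain ⟨I, hI, he⟩ := isCompact_iff_finite_and_eq_biUnion_affineOpens.mp
    (show IsCompact (X := X₀) ((⊤ : X₀.Opens) : Set X₀) from hcpt)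
  have hfin := hI.to_subtype
  have hfg : ∀ j : I, ∃ (n : ℕ) (s : Fin n → Γ(M, (i ≫ p) ⁻¹ᵁ j.1)),
      Submodule.span Γ(X, (i ≫ p) ⁻¹ᵁ j.1) (Set.range s) = ⊤ := fun j => by
    have hM1 : Coh.IsQCoh M := hM.1
    have h1 := Groth.Agent.CohqB.FiniteType2.finite_sections_of_isFT M hM.2 (j.1.2.preimage (i ≫ p))
    exact Submodule.fg_iff_exists_fin_generating_family.1 h1.1
  choose n s hs using hfg
  obtain ⟨E, ε, hE, -, hz⟩ := Groth.Agent.UnramB.TriDual.exists_coh hG 0 0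
    (κ := Σ j : I, Fin (n j)) (fun j => j.1.1) (fun j => j.1.1.2) (fun j => s j.1 j.2)
  have hepi := epi_desc i hpb hM.1 ε (fun x => by
    have hy : x ∈ (⊤ : X₀.Opens) := trivial
    rw [he] at hy
    simp only [Opens.mem_iSup] at hy
    obtain ⟨j, hj, hyj⟩ := hy
    refine ⟨j.1, hyj, j.2, ?_⟩
    rw [eq_top_iff, ← hs ⟨j, hj⟩]
    refine Submodule.span_mono ?_
    rintro _ ⟨k, rfl⟩
    exact hz ⟨⟨j, hj⟩, k⟩)
  let _ : X₀.Over (Spec (CommRingCat.of Γ(S₀, ⊤))) := ⟨φ ≫ S₀.toSpecΓ⟩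
  have hN' : IsNoetherianRing Γ(S₀, ⊤) :=
    IsLocallyNoetherian.component_noetherian ⟨⊤, isAffineOpen_top S₀⟩
  have hp₀ : IsProper (X₀ ↘ Spec (CommRingCat.of Γ(S₀, ⊤))) :=
    inferInstanceAs (IsProper (φ ≫ S₀.toSpecΓ))
  have hfinE : Module.Finite Γ(S₀, ⊤) (Coh.HH X₀ E d) := Groth.Agent.S0002.result Γ(S₀, ⊤) X₀ E hE d
  have h1 : ∀ c : Γ(Spec (CommRingCat.of A), ⊤), ∃ a : A,
      Coh.toGlobal (X ↘ Spec (CommRingCat.of A)) a =
        (X ↘ Spec (CommRingCat.of A)).appTop c := by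
    intro c
    refine ⟨(Scheme.ΓSpecIso (CommRingCat.of A)).hom c, ?_⟩
    have h : (Scheme.ΓSpecIso (CommRingCat.of A)).inv ((Scheme.ΓSpecIso (CommRingCat.of A)).hom c) =
      c := by simp
    exact congrArg (X ↘ Spec (CommRingCat.of A)).appTop h
  have h2 : ∀ c : Γ(S₀, ⊤), ∃ a : A, Coh.toGlobal (X ↘ Spec (CommRingCat.of A)) a =
      (i ≫ p).appTop (Coh.toGlobal (X₀ ↘ Spec (CommRingCat.of Γ(S₀, ⊤))) c : Γ(X₀, ⊤)) := by
    intro c
    obtain ⟨a, ha⟩ := h1 (q.appTop c)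
    refine ⟨a, ha.trans ?_⟩
    have h3 : (i ≫ p) ≫ φ = (X ↘ Spec (CommRingCat.of A)) ≫ q := by
      rw [Category.assoc, hpb.w, reassoc_of% hif]
    have h4 : (Coh.toGlobal (X₀ ↘ Spec (CommRingCat.of Γ(S₀, ⊤))) c : Γ(X₀, ⊤)) = φ.appTop c := by
      change (φ ≫ S₀.toSpecΓ).appTop ((Scheme.ΓSpecIso Γ(S₀, ⊤)).inv c) = _
      rw [Scheme.Hom.comp_appTop, Scheme.toSpecΓ_appTop]
      simp
    rw [h4]
    have h5 := congrArg (fun t => (Scheme.Hom.appTop t).hom c) h3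
    simp only [Scheme.Hom.comp_appTop, CommRingCat.hom_comp, RingHom.comp_apply] at h5
    exact h5.symm
  let Φ : Coh.HH X₀ E d →+ Coh.HH X M d := (cmp (i ≫ p) M d).comp (hmap ε d)
  obtain ⟨T, hT⟩ := hfinE
  let N : Submodule A (Coh.HH X M d) := Submodule.span A (Φ '' T)
  have h3 : ∀ y, Φ y ∈ N := by
    intro y
    have hy : y ∈ Submodule.span Γ(S₀, ⊤) (T : Set (Coh.HH X₀ E d)) := by
      rw [hT]; trivial
    induction hy using Submodule.span_induction with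
    | mem x hx => exact Submodule.subset_span ⟨x, hx, rfl⟩
    | zero => rw [map_zero]; exact N.zero_mem
    | add x y _ _ hx hy => rw [map_add]; exact N.add_mem hx hy
    | smul r x _ hx =>
      obtain ⟨a, ha⟩ := h2 r
      have h4 : Φ (r • x) = a • Φ x := by
        refine (cmp_hmap_smul (i ≫ p) ε d
          (Coh.toGlobal (X₀ ↘ Spec (CommRingCat.of Γ(S₀, ⊤))) r) x).trans ?_
        change _ = Coh.toGlobal (X ↘ Spec (CommRingCat.of A)) a • Φ x
        rw [ha]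
        rfl
      rw [h4]
      exact N.smul_mem a hx
  refine ⟨⟨(T.finite_toSet.image Φ).toFinset, ?_⟩⟩
  rw [Set.Finite.coe_toFinset, eq_top_iff]
  intro x _
  obtain ⟨x', rfl⟩ := (cmp_bijective (i ≫ p) hM.1 d).2 x
  obtain ⟨t, y, rfl⟩ := exists_sum hv (fun _ => hE.1) hG _ hepi x'
  rw [map_sum]
  refine Submodule.sum_mem _ fun c _ => ?_
  obtain ⟨a, ha⟩ := h1 c
  have h4 : cmp (i ≫ p) M d (hmap (ε ≫ mulS (i ≫ p) (i ≫ f') M c) d (y c)) = a • Φ (y c) := by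
    rw [hmap_comp_apply, mulS, cmp_hmap, hmap_smulModΓ, hif]
    change _ = Coh.toGlobal (X ↘ Spec (CommRingCat.of A)) a • Φ (y c)
    rw [ha]
    rfl
  rw [h4]
  exact N.smul_mem a (h3 _)

end K339.TopFin
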